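import Cfsg.Agent.E82.F5.Tor5

/-!
# S3369: the `5²`-frames (helper40)

* `norm68`, `norm48` : the normal forms of one element of order five;
* `Sm5`, `conZ5`, `cent5`, `norm5` : centraliser and normaliser of a pair of small torus elements;
* `frame : FRAME`; `Frame.cent2`, `Frame.norm2` : in the frame `n = 2`, `cj z g = gw l * (Psi B * s)` with `s ∈ Zt`.
-/

set_option autoImplicit false
set_option linter.unusedSectionVars false
set_option maxRecDepth 100000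
set_option maxHeartbeats 400000

namespace Cfsg.Agent.E82.F5

open CoxeterSystem Cfsg Cfsg.Lie Cfsg.Lie.ChevalleyDatum
open Cfsg.Agent.ChevalleyStructure Cfsg.Agent.ChevalleyStructure.Elts Cfsg.Agent.ChevalleyStructure.CoxeterGeom
  Cfsg.Agent.ChevalleyStructure.CoxeterGeomTypes Cfsg.Agent.ChevalleyStructure.NPerm
open Cfsg.Agent.Tits.Roots Cfsg.Agent.Tits.Core Cfsg.Agent.Nodes Cfsg.Agent.Nodes.Reps Cfsg.Agent.Nodes.BNOf
  Cfsg.Agent.Nodes.RGDChev Cfsg.Agent.Nodes.Bruhat Cfsg.Agent.Nodes.SubComb Cfsg.Agent.Nodes.Coroot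
open Cfsg.Agent.KFacts.RgdField Cfsg.Agent.KFacts.RgdChevCoord Cfsg.Agent.BpExc.TorCent Cfsg.Agent.BpExc.TorChev
open Cfsg.Agent.GpExc.Field Cfsg.Agent.BpExc.Tow Cfsg.Agent.BpExc.TowChev Cfsg.Agent.BpExc.Fr
  Cfsg.Agent.BpExc.LangFr Cfsg.Agent.LangThm Cfsg.Agent.BpExc Cfsg.Agent.H129.TorusChar Cfsg.Agent.H129.TorusMain
open Cfsg.Agent.H795.SetCent Cfsg.Agent.H795.SetTor Cfsg.Agent.H720.TorusReal
open Cfsg.Agent.H897.T5Cent (coL chL mem_TL' sub_of_dvd cartan_symm)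
open Cfsg.Agent.H897.T5Frame (bc rc bf_eq)
open Cfsg.Agent.H897.T5UntwRow (A8)
open Cfsg.Agent.BpExc.RowsUntw (e8T)
open Cfsg.Agent.BpExc.FamInst Cfsg.Agent.BpExc.FamUntw
open Cfsg.Agent.H939.L64 (KK E2 LK em aK rE TorZ)
open Cfsg.Agent.H413.L64 (charKK locKK nsysKK vl pow_inj_val pow_val twist_fix)
open Cfsg.Agent.H413.L16 (cs8 act Good exists_good hA8 hFrm8 finW8 nr vec_act coords8 S2 Psi Zt)
open Cfsg.Agent.H259.L34 (dz dz_sub dz_smul dz_sr qf three_qf alc cz)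
open Cfsg.Agent.H943.E8Tab (th8 vecOf)
open Cfsg.Agent.H944.Tab (allAlc allAlc_spec)
open Cfsg.Agent.H5.L34 (ConZ cent_formZ starZ root_vec)
open Cfsg.Agent.H201.L34 (gw good_gw)
open Cfsg.Agent.E82.Fr

attribute [local instance] Cfsg.Agent.H413.L64.charKK

variable {ζ : KK}

/-! ### one element -/

theorem chk5n : allAlc th8 5 (fun y => (cz 5 (y.map (1 * ·)) 0 != 60 || y == [1, 0, 0, 0, 0, 0, 0, 1]) &&
    (cz 5 (y.map (1 * ·)) 0 != 40 || y == [0, 0, 0, 0, 1, 0, 0, 0])) = true := by decide +kernel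

theorem norm5a (hζ : IsPrimitiveRoot ζ 5) {x : E2} (hx : x ^ 5 = 1) :
    (cf x = 68 → ∃ z, One x (vecOf 5 [1, 0, 0, 0, 0, 0, 0, 1]) ζ z) ∧
      (cf x = 48 → ∃ z, One x (vecOf 5 [0, 0, 0, 0, 1, 0, 0, 0]) ζ z) := by
  by_cases h1 : x = 1
  · rw [h1, fd_one]
    exact ⟨fun h => absurd h (by decide), fun h => absurd h (by decide)⟩
  obtain ⟨v, z, hv⟩ := exists_one (N := 5) (by decide) hζ hx
  obtain ⟨Y, hYl, hYθ, -, hT, -, -⟩ := alc (hv.tor hζ) h1
  have h2 := allAlc_spec th8 5 _ (by decide) chk5n Y hYl hYθ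
  have e1 := fd_alc hT 1
  rw [pow_one] at e1
  simp only [Bool.and_eq_true, Bool.or_eq_true, bne_iff_ne, ne_eq, beq_iff_eq] at h2
  obtain ⟨-, z', t, rfl, h3, h4⟩ := hT
  refine ⟨fun h => ⟨z', ?_⟩, fun h => ⟨z', ?_⟩⟩
  · rw [← h2.1.resolve_left (by omega)]
    exact ⟨h3, h4⟩
  · rw [← h2.2.resolve_left (by omega)]
    exact ⟨h3, h4⟩

theorem norm68 (hζ : IsPrimitiveRoot ζ 5) {x : E2} (hx : x ^ 5 = 1) (h : cf x = 68) : ∃ z, One x (vh 226 239) ζ z := by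
  rw [show vh 226 239 = vecOf 5 [1, 0, 0, 0, 0, 0, 0, 1] by decide +kernel]
  exact (norm5a hζ hx).1 h

theorem norm48 (hζ : IsPrimitiveRoot ζ 5) {x : E2} (hx : x ^ 5 = 1) (h : cf x = 48) :
    ∃ z, One x (![0, 0, 0, 0, 1, 0, 0, 0] : Fin 8 → ZMod 5) ζ z := by
  rw [show (![0, 0, 0, 0, 1, 0, 0, 0] : Fin 8 → ZMod 5) = vecOf 5 [0, 0, 0, 0, 1, 0, 0, 0] by decide +kernel]
  exact (norm5a hζ hx).2 h

/-! ### small classes -/

/-- `v` is the class of the vector `μ` of norm at most ten -/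
def Sm5 (v : Fin 8 → ZMod 5) (μ : Q8) : Prop := bc A8 μ μ ≤ 10 ∧ ∀ j, v j = ((bc A8 μ (sr j) : ℤ) : ZMod 5)

theorem Sm5.val {v : Fin 8 → ZMod 5} {μ : Q8} (h : Sm5 v μ) (a : Q8) : dz v a = ((B8 μ a : ℤ) : ZMod 5) := by
  have h1 : v = fun j => ((Int.castAddHom (ZMod 5)).comp (B8 μ).toAddMonoidHom) (sr j) :=
    funext fun j => (h.2 j).trans (by rw [← B8_eq]; rfl)
  rw [h1, dz_hom]
  rfl

theorem Sm5.fix {v : Fin 8 → ZMod 5} {μ : Q8} (h : Sm5 v μ) {w : W8} (hw : wa w v = v) : act w μ = μ := by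
  obtain ⟨l, hl⟩ := sub_of_dvd (p := 5) inv_E8 (Nat.coprime_one_left 5) (cartan_symm e8T cs8 hFrm8) (ν := μ - act w μ)
    fun x => by
      have h1 : dz v (act w (act w⁻¹ x)) = dz v (act w⁻¹ x) := by rw [← dz_wa, hw]
      rw [h.val, h.val, ← hFrm8.inv w μ (act w⁻¹ x), rep_apply_inv] at h1
      rw [map_sub, LinearMap.sub_apply, ← ZMod.intCast_eq_intCast_iff_dvd_sub]
      have h2 : act w (act w⁻¹ x) = x := rep_apply_inv _ _ _ _
      rw [h2] at h1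
      exact h1.symm
  have h0 : act w μ = μ - (5 : ℤ) • l := by
    have h2 : μ - act w μ = (5 : ℤ) • l := hl
    rw [← h2, sub_sub_cancel]
  have h1 := hFrm8.norm_sub_smul μ l 5
  rw [← h0, hFrm8.inv] at h1
  have h2 := hFrm8.nonneg ((2 : ℤ) • μ - (5 : ℤ) • l)
  rw [hFrm8.norm_sub_smul] at h2
  simp only [map_smul, LinearMap.smul_apply, smul_eq_mul] at h2
  have h3 := hFrm8.nonneg l
  have h4 := h.1
  rw [← B8_eq] at h4
  unfold B8 at h4
  have h5 : l = 0 := hFrm8.eq_zero (by omega)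
  rw [h0, h5, smul_zero, sub_zero]

theorem Sm5.abs {v : Fin 8 → ZMod 5} {μ β : Q8} (h : Sm5 v μ) (hβ : IsRoot cs8 e8T.isCartan β) :
    -4 ≤ B8 μ β ∧ B8 μ β ≤ 4 := by
  have h1 := hFrm8.nonneg (μ - (2 : ℤ) • β)
  have h2 := hFrm8.nonneg (μ - (-2 : ℤ) • β)
  rw [hFrm8.norm_sub_smul, hFrm8.self hβ] at h1 h2
  have h4 := h.1
  rw [← B8_eq] at h4
  unfold B8 at h4 ⊢
  omega

/-- **two small classes: the stabiliser is a reflection group** -/
theorem conZ5 (hζ : IsPrimitiveRoot ζ 5) {t : Fin 2 → GK} {V : Fin 2 → Fin 8 → ZMod 5} (ht : ∀ i, Tv (t i) (V i) ζ)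
    {μ : Fin 2 → Q8} (hs : ∀ i, Sm5 (V i) (μ i)) : ConZ e8T cs8 locKK 2 (Set.range t) := by
  intro w hw
  have hZ : Set.range t ⊆ TL (Tj e8T (k := KK)) := by
    rintro _ ⟨i, rfl⟩
    exact (mem_TL' e8T locKK).2 (ht i).1
  have hfix : ∀ i, act w (μ i) = μ i := fun i => (hs i).fix (funext fun j => by
    have h1 := hw _ (isRoot_sr cs8 e8T.isCartan j) _ ⟨i, rfl⟩
    rw [← cX_root e8T cs8 (ht i).1 ((isRoot_sr cs8 e8T.isCartan j).act w),
      ← cX_root e8T cs8 (ht i).1 (isRoot_sr cs8 e8T.isCartan j), cX_dz hζ (ht i).1 (ht i).2, (ht i).2] at h1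
    exact (pow_inj_val hζ).1 h1)
  have hrep : rep cs8 e8T.isCartan w (μ 0 + (9 : ℤ) • μ 1) = (μ 0 + (9 : ℤ) • μ 1) - ((100 : ℕ) : ℤ) • (0 : Q8) := by
    rw [map_add, map_smul, smul_zero, sub_zero]
    exact congrArg₂ _ (hfix 0) (congrArg _ (hfix 1))
  have hVV := Cfsg.Agent.H897.T5Lat.mem_VV_of_rep hFrm8 (by norm_num) hrep
  refine (?_ : Cfsg.Agent.H897.T5Lat.VV cs8 e8T.isCartan 100 (μ 0 + (9 : ℤ) • μ 1) ≤ _) hVV
  refine (Subgroup.closure_le _).2 ?_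
  rintro _ ⟨u, i, hd, rfl⟩
  have hr : IsRoot cs8 e8T.isCartan (rep cs8 e8T.isCartan u (sr i)) := ⟨u, i, rfl⟩
  refine rfl_mem_VV (tow e8T cs8 locKK 2) (coL e8T cs8 locKK 2) (chL e8T cs8 locKK 2) hZ ⟨hr, ?_⟩
  generalize rep cs8 e8T.isCartan u (sr i) = β at hr hd
  rw [← hFrm8.cpr _ _ hr, map_add, map_smul, LinearMap.add_apply, LinearMap.smul_apply, smul_eq_mul] at hd
  have a0 := (hs 0).abs hr
  have a1 := (hs 1).abs hr
  unfold B8 at a0 a1
  obtain ⟨c, hc⟩ := hd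
  push_cast at hc
  have hc0 : c = 0 := by omega
  have h0 : ∀ k, B8 (μ k) β = 0 := fun k => by
    unfold B8
    fin_cases k
    · show (Cfsg.Agent.H897.T5Lat.bf (cartanOf chevE8 8)) (μ 0) β = 0
      omega
    · show (Cfsg.Agent.H897.T5Lat.bf (cartanOf chevE8 8)) (μ 1) β = 0
      omega
  rintro _ ⟨k, rfl⟩
  rw [← cX_root e8T cs8 (ht k).1 hr, cX_dz hζ (ht k).1 (ht k).2, (hs k).val, h0, Int.cast_zero, ZMod.val_zero, pow_zero]

/-- **the centraliser of a set of torus elements** -/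
theorem cent_of_conZ {N : ℕ} [NeZero N] (hζ : IsPrimitiveRoot ζ N) {n : ℕ} {t : Fin n → GK} {V : Fin n → Fin 8 → ZMod N}
    (ht : ∀ i, Tv (t i) (V i) ζ) (hC : ConZ e8T cs8 locKK 2 (Set.range t)) {L : List ℕ}
    (hL : ∀ r < 240, (∀ i, dv (V i) r = 0) → r ∈ L) {c : GK} (hc : ∀ i, c * t i = t i * c) :
    ∃ m ∈ KB L, ∃ s ∈ TT chevE8 KK, c = m * s := by
  obtain ⟨m, hm, s, hs', rfl⟩ := cent_formZ e8T cs8 locKK 2 (Set.finite_range t)
    (by rintro _ ⟨i, rfl⟩; exact (ht i).1) hC (c := c) (by rintro _ ⟨i, rfl⟩; exact hc i)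
  refine ⟨m, (?_ : MMZ cs8 e8T.isCartan (XX chevE8 8 KK) (ch e8T) (Set.range t) ≤ KB L) hm, s, hs', rfl⟩
  refine RGD.Sup_le fun a ha => ?_
  obtain ⟨r, hr, rfl⟩ := (isRoot_iff e8T cs8 a).1 ha.1
  have h3 : r ∈ L := hL r (by rw [← nr]; exact hr) fun i => by
    have h2 := ha.2 (t i) ⟨i, rfl⟩
    rw [← cX_root e8T cs8 (ht i).1 ha.1, cX_dz hζ (ht i).1 (ht i).2] at h2
    exact (pow_val_one hζ).1 h2
  intro y hy
  obtain ⟨c, rfl⟩ := ((coords8 _ ha.1).mem y).1 hy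
  exact xr_mem_KB h3 c

/-- one element of order five -/
theorem conZ1 (hζ : IsPrimitiveRoot ζ 5) {t : Fin 1 → GK} {V : Fin 1 → Fin 8 → ZMod 5} (ht : ∀ i, Tv (t i) (V i) ζ) :
    ConZ e8T cs8 locKK 2 (Set.range t) := by
  rw [Set.range_unique]
  exact con5 _ (ht _).1 (tv_pow hζ (ht _))

/-- **the normaliser** -/
theorem norm_of_conZ {N : ℕ} [NeZero N] (hζ : IsPrimitiveRoot ζ N) {n : ℕ} {t : Fin n → GK} {V V' : Fin n → Fin 8 → ZMod N}
    (ht : ∀ i, Tv (t i) (V i) ζ) (hC : ConZ e8T cs8 locKK 2 (Set.range t)) {L : List ℕ}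
    (hL : ∀ r < 240, (∀ i, dv (V i) r = 0) → r ∈ L) {g : GK} (hg : ∀ i, Tv (g * t i * g⁻¹) (V' i) ζ)
    {l : List ℕ} (hl : ∀ r ∈ l, r < 240) (hw : ∀ i, wN l (V' i) = V i) :
    ∃ m ∈ KB L, ∃ s ∈ TT chevE8 KK, g = gw l * m * s := by
  obtain ⟨m, hm, s, hs', e⟩ := cent_of_conZ hζ ht hC hL (c := (gw l)⁻¹ * g) fun i => by
    have h3 := tv_gw hζ hl (hg i)
    rw [hw] at h3
    have h5 := h3.ext (ht i)
    calc (gw l)⁻¹ * g * t i = ((gw l)⁻¹ * (g * t i * g⁻¹) * gw l) * ((gw l)⁻¹ * g) := by group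
      _ = _ := by rw [h5]
  refine ⟨m, hm, s, hs', ?_⟩
  rw [mul_assoc, ← e]
  group

/-- the vector `r + 2 s` -/
def mu (r s : ℕ) : Q8 := vec chevE8 8 r + (2 : ℤ) • vec chevE8 8 s

theorem sm68 : Sm5 (vh 226 239) (mu 226 239) := by unfold Sm5; decide +kernel

theorem smA : Sm5 (vh 152 159) (mu 152 159) := by unfold Sm5; decide +kernel

theorem smB : Sm5 (vh 141 135) (mu 141 135) := by unfold Sm5; decide +kernel

/-! ### the coordinates -/

/-- the roots whose values are the coordinates -/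
def bt : Fin 8 → ℕ := ![238, 237, 236, 235, 234, 233, 226, 239]

/-- the inverse matrix -/
def MM : Fin 8 → Fin 8 → ZMod 5 := ![![2, 2, 2, 2, 2, 3, 4, 1], ![0, 0, 0, 0, 1, 1, 4, 4], ![0, 0, 0, 0, 1, 4, 0, 0],
  ![0, 0, 0, 1, 4, 0, 0, 0], ![0, 0, 1, 4, 0, 0, 0, 0], ![0, 1, 4, 0, 0, 0, 0, 0], ![1, 4, 0, 0, 0, 0, 0, 0],
  ![4, 0, 0, 0, 0, 0, 0, 1]]

theorem MM_spec : ∀ j k : Fin 8, ∑ i, MM j i * ((vec chevE8 8 (bt i) k : ℤ) : ZMod 5) = if j = k then 1 else 0 := by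
  decide +kernel

theorem eq_MM (u : Fin 8 → ZMod 5) (j : Fin 8) : u j = ∑ i, MM j i * dv u (bt i) := by
  unfold dv dz
  simp only [Finset.mul_sum, ← mul_assoc]
  rw [Finset.sum_comm]
  simp only [← Finset.sum_mul, MM_spec]
  simp

/-- the coordinates -/
def Cd (u : Fin 8 → ZMod 5) (a b c d e f : ZMod 5) : Prop := dv u 238 = a ∧ dv u 237 = b ∧ dv u 236 = c ∧ dv u 235 = d ∧
  dv u 234 = e ∧ dv u 233 = f ∧ dv u 226 = 0 ∧ dv u 239 = 0

/-- the values with given coordinates -/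
def uc (a b c d e f : ZMod 5) : Fin 8 → ZMod 5 :=
  ![2 * a + 2 * b + 2 * c + 2 * d + 2 * e + 3 * f, e + f, e + 4 * f, d + 4 * e, c + 4 * d, b + 4 * c, a + 4 * b, 4 * a]

theorem Cd.eq {u : Fin 8 → ZMod 5} {a b c d e f : ZMod 5} (h : Cd u a b c d e f) : u = uc a b c d e f := by
  obtain ⟨h0, h1, h2, h3, h4, h5, h6, h7⟩ := h
  funext j
  rw [eq_MM u j, Fin.sum_univ_eight]
  show MM j 0 * dv u 238 + MM j 1 * dv u 237 + MM j 2 * dv u 236 + MM j 3 * dv u 235 + MM j 4 * dv u 234 +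
    MM j 5 * dv u 233 + MM j 6 * dv u 226 + MM j 7 * dv u 239 = _
  rw [h0, h1, h2, h3, h4, h5, h6, h7]
  fin_cases j <;> simp [MM, uc]

theorem qf_uc (a b c d e f : ZMod 5) : qf (uc a b c d e f) = 3 * (a * a + b * b + c * c + d * d + e * e + f * f) := by
  have h5 : (5 : ZMod 5) = 0 := rfl
  have e0 : uc a b c d e f 0 = 2 * a + 2 * b + 2 * c + 2 * d + 2 * e + 3 * f := rfl
  have e1 : uc a b c d e f 1 = e + f := rfl
  have e2 : uc a b c d e f 2 = e + 4 * f := rfl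
  have e3 : uc a b c d e f 3 = d + 4 * e := rfl
  have e4 : uc a b c d e f 4 = c + 4 * d := rfl
  have e5 : uc a b c d e f 5 = b + 4 * c := rfl
  have e6 : uc a b c d e f 6 = a + 4 * b := rfl
  have e7 : uc a b c d e f 7 = 4 * a := rfl
  unfold qf
  rw [e0, e1, e2, e3, e4, e5, e6, e7]
  linear_combination (12 * a * a + 36 * a * b + 46 * a * c + 56 * a * d + 66 * a * e + 48 * a * f + 27 * b * b + 71 * b * c + 86 * b
    * d + 101 * b * e + 73 * b * f + 47 * c * c + 116 * c * d + 136 * c * e + 98 * c * f + 72 * d * d + 171 * d *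
    e + 123 * d * f + 102 * e * e + 148 * e * f + 54 * f * f) * h5

/-- the pair has the coordinates `a … f` in some frame -/
def Fc (x x' : E2) (ζ : KK) (a b c d e f : ZMod 5) : Prop :=
  ∃ (u : Fin 8 → ZMod 5) (z : GK), One x u ζ z ∧ One x' (vh 226 239) ζ z ∧ Cd u a b c d e f

/-- the word `l` fixes `x'` and moves the roots of the coordinates to the list `s` -/
def Mv (l : List ℕ) (s : Fin 8 → ℕ) : Prop := (∀ r ∈ l, r < 240) ∧ wN l (vh 226 239) = vh 226 239 ∧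
  ∀ i, fl l (vec chevE8 8 (bt i)) = vec chevE8 8 (s i)

theorem Mv.mv (hζ : IsPrimitiveRoot ζ 5) {l : List ℕ} {s : Fin 8 → ℕ} (h : Mv l s) {x x' : E2} {u : Fin 8 → ZMod 5} {z : GK}
    (h1 : One x u ζ z) (h2 : One x' (vh 226 239) ζ z) {a b c d e f : ZMod 5} (h3 : dv u (s 0) = a ∧ dv u (s 1) = b ∧
      dv u (s 2) = c ∧ dv u (s 3) = d ∧ dv u (s 4) = e ∧ dv u (s 5) = f ∧ dv u (s 6) = 0 ∧ dv u (s 7) = 0) :
    Fc x x' ζ a b c d e f := by
  refine ⟨wN l u, z * gw l, one_gw hζ h.1 h1, by have := one_gw hζ h.1 h2; rwa [h.2.1] at this, ?_⟩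
  have k := fun i => dv_wN h.1 u (h.2.2 i)
  exact ⟨(k 0).trans h3.1, (k 1).trans h3.2.1, (k 2).trans h3.2.2.1, (k 3).trans h3.2.2.2.1, (k 4).trans h3.2.2.2.2.1,
    (k 5).trans h3.2.2.2.2.2.1, (k 6).trans h3.2.2.2.2.2.2.1, (k 7).trans h3.2.2.2.2.2.2.2⟩

theorem dv_opp (u : Fin 8 → ZMod 5) {r s : ℕ} (h : vec chevE8 8 s = vec chevE8 8 226 + vec chevE8 8 239 - vec chevE8 8 r)
    (h6 : dv u 226 = 0) (h7 : dv u 239 = 0) : dv u s = -dv u r := by
  unfold dv at h6 h7 ⊢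
  rw [h, dz_sub, dz_add, h6, h7, add_zero, zero_sub]

theorem mv01 : Mv [121] ![237, 238, 236, 235, 234, 233, 226, 239] := by unfold Mv; decide +kernel
theorem mv12 : Mv [123] ![238, 236, 237, 235, 234, 233, 226, 239] := by unfold Mv; decide +kernel
theorem mv23 : Mv [126] ![238, 237, 235, 236, 234, 233, 226, 239] := by unfold Mv; decide +kernel
theorem mv34 : Mv [130] ![238, 237, 236, 234, 235, 233, 226, 239] := by unfold Mv; decide +kernel
theorem mv45 : Mv [135] ![238, 237, 236, 235, 233, 234, 226, 239] := by unfold Mv; decide +kernel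
theorem mn01 : Mv [121, 159] ![227, 228, 236, 235, 234, 233, 226, 239] := by unfold Mv; decide +kernel
theorem mn05 : Mv [139, 145] ![227, 237, 236, 235, 234, 232, 226, 239] := by unfold Mv; decide +kernel
theorem mn6 : Mv [133, 138, 135, 141] ![234, 233, 236, 235, 227, 228, 226, 239] := by unfold Mv; decide +kernel

theorem opp0 : vec chevE8 8 227 = vec chevE8 8 226 + vec chevE8 8 239 - vec chevE8 8 238 := by decide +kernel
theorem opp1 : vec chevE8 8 228 = vec chevE8 8 226 + vec chevE8 8 239 - vec chevE8 8 237 := by decide +kernel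
theorem opp5 : vec chevE8 8 232 = vec chevE8 8 226 + vec chevE8 8 239 - vec chevE8 8 233 := by decide +kernel

theorem neg_val5 : ∀ a : ZMod 5, a.val < 5 ∧ (3 ≤ a.val → (-a).val = 5 - a.val) ∧ (a.val = 0 → (-a).val = 0) := by decide

/-- the normal forms -/
def NF (a b c d e f : ZMod 5) : Prop := (a, b, c, d, e, f) ∈ [(0, 0, 0, 0, 0, 0), (2, 1, 0, 0, 0, 0), (2, 2, 1, 1, 0, 0),
  (1, 1, 1, 1, 1, 0), (2, 2, 2, 2, 2, 0), (2, 2, 2, 1, 1, 1), (3, 2, 2, 1, 1, 1), ((4, 2, 2, 2, 1, 1) :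
    ZMod 5 × ZMod 5 × ZMod 5 × ZMod 5 × ZMod 5 × ZMod 5)]

set_option synthInstance.maxSize 4000 in
theorem nf_tab : ∀ a b : ZMod 5, b.val ≤ a.val → b.val ≤ 2 → ∀ c : ZMod 5, c.val ≤ b.val → ∀ d : ZMod 5, d.val ≤ c.val →
    ∀ e : ZMod 5, e.val ≤ d.val → ∀ f : ZMod 5, f.val ≤ e.val → (a.val ≤ 2 ∨ f.val ≠ 0) →
      a * a + b * b + c * c + d * d + e * e + f * f = 0 → NF a b c d e f := by
  unfold NF
  decide +kernel

theorem Fc.q (hζ : IsPrimitiveRoot ζ 5) {x x' : E2} {a b c d e f : ZMod 5} (h : Fc x x' ζ a b c d e f) :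
    a * a + b * b + c * c + d * d + e * e + f * f = 0 := by
  obtain ⟨u, z, h1, -, h3⟩ := h
  have h4 := three_qf (h1.tor hζ)
  rw [h3.eq, qf_uc] at h4
  have h5 : (5 : ZMod 5) = 0 := rfl
  linear_combination (-1 : ZMod 5) * h4 + 2 * (a * a + b * b + c * c + d * d + e * e + f * f) * h5

/-- **the descent** -/
theorem Fc.nf (hζ : IsPrimitiveRoot ζ 5) {x x' : E2} : ∀ (n : ℕ) {a b c d e f : ZMod 5},
    a.val + 5 * b.val + 25 * c.val + 125 * d.val + 625 * e.val + 3125 * f.val = n → Fc x x' ζ a b c d e f →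
      ∃ a b c d e f, NF a b c d e f ∧ Fc x x' ζ a b c d e f := by
  intro n
  induction n using Nat.strong_induction_on with
  | _ n ih =>
    intro a b c d e f hn h
    have hq := h.q hζ
    obtain ⟨u, z, h1, h2, k0, k1, k2, k3, k4, k5, k6, k7⟩ := h
    by_cases c0 : a.val < b.val
    · exact ih _ (by omega) rfl (mv01.mv hζ h1 h2 ⟨k1, k0, k2, k3, k4, k5, k6, k7⟩)
    by_cases c1 : b.val < c.val
    · exact ih _ (by omega) rfl (mv12.mv hζ h1 h2 ⟨k0, k2, k1, k3, k4, k5, k6, k7⟩)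
    by_cases c2 : c.val < d.val
    · exact ih _ (by omega) rfl (mv23.mv hζ h1 h2 ⟨k0, k1, k3, k2, k4, k5, k6, k7⟩)
    by_cases c3 : d.val < e.val
    · exact ih _ (by omega) rfl (mv34.mv hζ h1 h2 ⟨k0, k1, k2, k4, k3, k5, k6, k7⟩)
    by_cases c4 : e.val < f.val
    · exact ih _ (by omega) rfl (mv45.mv hζ h1 h2 ⟨k0, k1, k2, k3, k5, k4, k6, k7⟩)
    have va := neg_val5 a
    have vb := neg_val5 b
    have vf := neg_val5 f
    have n0 : dv u 227 = -a := by rw [dv_opp u opp0 k6 k7, k0]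
    by_cases c5 : 3 ≤ b.val
    · have n1 : dv u 228 = -b := by rw [dv_opp u opp1 k6 k7, k1]
      exact ih _ (by omega) rfl (mn01.mv hζ h1 h2 ⟨n0, n1, k2, k3, k4, k5, k6, k7⟩)
    by_cases c6 : 3 ≤ a.val ∧ f.val = 0
    · have n5 : dv u 232 = -f := by rw [dv_opp u opp5 k6 k7, k5]
      exact ih _ (by omega) rfl (mn05.mv hζ h1 h2 ⟨n0, k1, k2, k3, k4, n5, k6, k7⟩)
    exact ⟨a, b, c, d, e, f, nf_tab a b (by omega) (by omega) c (by omega) d (by omega) e (by omega) f (by omega) (by omega) hq,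
      u, z, h1, h2, k0, k1, k2, k3, k4, k5, k6, k7⟩

theorem top_root : ∀ r < 240, bc A8 (mu 226 239) (vec chevE8 8 r) = 4 → r = 239 := by decide +kernel

theorem mu_a4 : bc A8 (mu 226 239) (vec chevE8 8 239) = 4 := by decide +kernel

theorem self_neg : ∀ a : ZMod 5, -a = a → a = 0 := by decide

/-- **the partner has no values on `a₃`, `a₄`** -/
theorem Pair.fc (hζ : IsPrimitiveRoot ζ 5) {x x' w : E2} (h : Pair x x' w) (h68 : cf x' = 68) :
    ∃ a b c d e f, Fc x x' ζ a b c d e f := by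
  obtain ⟨z0, h0⟩ := norm68 hζ h.p2 h68
  obtain ⟨u, z, h1, h2⟩ := step5 hζ h0 h.p1 h.p2 h.cm
  have e' : w * x' * w⁻¹ = x' := by rw [h.cw.eq, mul_inv_cancel_right]
  have m1 : TupZ ![w * x * w⁻¹, w * x' * w⁻¹] ![u, vh 226 239] ζ (em w * z) := by
    intro i
    fin_cases i
    exacts [h1.conj w, h2.conj w]
  have m2 : TupZ ![w * x * w⁻¹, w * x' * w⁻¹] ![-u, vh 226 239] ζ z := by
    rw [h.inv, e']
    intro i
    fin_cases i
    exacts [h1.inv hζ, h2]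
  obtain ⟨ω, hω⟩ := TupZ.conj_w hζ m1 m2
  have w1 : wa ω (-u) = u := hω 0
  have w2 : wa ω (vh 226 239) = vh 226 239 := hω 1
  have f1 := sm68.fix w2
  have f2 : act ω (vec chevE8 8 239) = vec chevE8 8 239 := by
    obtain ⟨a, ha, e⟩ := vec_act ω (show 239 < chevE8.nroots by rw [nr]; norm_num)
    have h3 : a = 239 := top_root a (by rw [← nr]; exact ha) (by
      rw [e, ← f1, ← B8_eq, hFrm8.inv, B8_eq]
      exact mu_a4)
    rw [← e, h3]
  have f3 : act ω (vec chevE8 8 226) = vec chevE8 8 226 := by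
    have h3 : act ω (mu 226 239) = act ω (vec chevE8 8 226) + (2 : ℤ) • act ω (vec chevE8 8 239) := by
      show rep cs8 e8T.isCartan ω _ = _
      rw [mu, map_add, map_smul]
    rw [f1, f2, mu] at h3
    exact (add_right_cancel h3).symm
  have key : ∀ r, act ω (vec chevE8 8 r) = vec chevE8 8 r → dv u r = 0 := fun r hr => self_neg _ (by
    have h3 := dz_wa ω (-u) (vec chevE8 8 r)
    rw [w1, hr, dz_neg_left] at h3
    exact h3.symm)
  exact ⟨_, _, _, _, _, _, u, z, h1, h2, rfl, rfl, rfl, rfl, rfl, rfl, key _ f3, key _ f2⟩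

/-- the frame in which the Frobenius map acts as `gw l` -/
theorem mk_frame (hζ : IsPrimitiveRoot ζ 5) {x x' : E2} {r s : ℕ} {l : List ℕ} {z : GK} (h1 : One x (vh r s) ζ z)
    (h2 : One x' (vh 226 239) ζ z) (hs : Sm5 (vh r s) (mu r s)) (hl : ∀ r ∈ l, r < 240)
    (hw1 : wN l (vh r s) = 2 • vh r s) (hw2 : wN l (vh 226 239) = 2 • vh 226 239) : ∃ z', Frame x x' r s l ζ z' := by
  obtain ⟨w, hw, hL, -⟩ := exists_wN (N := 5) hl
  have hcard : Nat.card (ZMod 2) = 2 ^ 1 := by simp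
  have hdvd : ∀ v : Fin 8 → ZMod 5, wN l v = 2 • v →
      ∀ i, ((5 : ℕ) : ℤ) ∣ vl v (rep cs8 e8T.isCartan w (sr i)) - (2 ^ 1 : ℕ) * vl v (sr i) := by
    intro v hv i
    have h : rep cs8 e8T.isCartan w (sr i) = fl l (sr i) := hL _
    rw [h, ← ZMod.intCast_eq_intCast_iff_dvd_sub]
    push_cast
    rw [vl_dz, vl_dz, dz_sr]
    have h3 : dz v (fl l (sr i)) = (2 • v) i := congrFun hv i
    rw [h3, two_nsmul, Pi.add_apply, two_mul]
  have ht : ∀ i : Fin 2, Tv (![cj z x, cj z x'] i) (![vh r s, vh 226 239] i) ζ := by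
    intro i
    fin_cases i
    exacts [h1.tv, h2.tv]
  obtain ⟨z', hz, hzt⟩ := starZ e8T cs8 locKK 2 one_pos (phi_isFrob (D := chevE8) (k := KK) 2 1)
    (phi_fr e8T cs8 2 locKK 1) inv_E8 one_ne_zero (ι := Fin 2) (x := ![em x, em x']) (t := ![cj z x, cj z x'])
    (fun i => (ht i).1) (conZ5 hζ ht (μ := ![mu r s, mu 226 239]) (by
      intro i
      fin_cases i
      exacts [hs, sm68])) (n := gw l) (z := z) hw.rp (by
      intro i
      fin_cases i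
      · exact Cfsg.Agent.H378.TorFin.phi_emb' e8T (algebraMap (ZMod 2) KK) 2 hcard x
      · exact Cfsg.Agent.H378.TorFin.phi_emb' e8T (algebraMap (ZMod 2) KK) 2 hcard x') (by
      intro i
      fin_cases i
      · exact (cj_apply z x).symm
      · exact (cj_apply z x').symm) (by
      intro i
      fin_cases i
      · exact twist_fix 2 1 (N := 5) (by norm_num) locKK hζ h1.tv.1 h1.tv.2 (hdvd _ hw1) hw.rp
      · exact twist_fix 2 1 (N := 5) (by norm_num) locKK hζ h2.tv.1 h2.tv.2 (hdvd _ hw2) hw.rp)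
  have e1 : z'⁻¹ * em x * z' = cj z x := hzt 0
  have e2 : z'⁻¹ * em x' * z' = cj z x' := hzt 1
  refine ⟨z', hζ, ?_, ?_, hz⟩
  · unfold Fr.One
    rw [e1]
    exact h1.tv
  · unfold Fr.One
    rw [e2]
    exact h2.tv

theorem Fc.c2 (hζ : IsPrimitiveRoot ζ 5) {x x' : E2} {a b c d e f : ZMod 5} (h : Fc x x' ζ a b c d e f) :
    c2 x x' = 8 + (List.range 240).countP fun r => decide (dv (uc a b c d e f) r = 0) && decide (dv (vh 226 239) r = 0) := by
  obtain ⟨u, z, h1, h2, h3⟩ := h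
  rw [c2_eq hζ hζ h1 h2, h3.eq]

/-- **the frames** -/
theorem frame : FRAME := by
  intro x x' w h h68
  obtain ⟨ζ, hζ⟩ := Cfsg.Agent.H939.L64.exists_zeta 5 (by decide)
  obtain ⟨a, b, c, d, e, f, h1⟩ := h.fc hζ h68
  obtain ⟨a, b, c, d, e, f, h2, h3⟩ := Fc.nf hζ _ rfl h1
  have h4 := h3.c2 hζ
  simp only [NF, List.mem_cons, Prod.mk.injEq, List.not_mem_nil, or_false] at h2
  rcases h2 with h2 | h2 | h2 | h2 | h2 | h2 | h2 | h2 <;> obtain ⟨rfl, rfl, rfl, rfl, rfl, rfl⟩ := h2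
  · obtain ⟨u, z, k1, -, k3⟩ := h3
    exact absurd (eq_one_of_tor (k1.tor hζ) (by rw [k3.eq]; decide)) h.ne
  · obtain ⟨u, z, k1, k2, k0, k1', k2', k3, k4, k5, k6, k7⟩ := h3
    obtain ⟨u', z', m1, m2, m3⟩ := mn6.mv hζ k1 k2 (a := 0) (b := 0) (c := 0) (d := 0) (e := 3) (f := 4)
      ⟨k4, k5, k2', k3, by show dv u 227 = 3; rw [dv_opp u opp0 k6 k7, k0]; rfl,
        by show dv u 228 = 4; rw [dv_opp u opp1 k6 k7, k1']; rfl, k6, k7⟩
    rw [m3.eq, show uc 0 0 0 0 3 4 = vh 141 135 by decide +kernel] at m1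
    exact Or.inr (Or.inl ⟨h4.trans (by decide +kernel), ζ,
      mk_frame hζ m1 m2 smB (by decide) (by decide +kernel) (by decide +kernel)⟩)
  · obtain ⟨u, z, k1, k2, k3⟩ := h3
    rw [k3.eq, show uc 2 2 1 1 0 0 = vh 152 159 by decide +kernel] at k1
    exact Or.inl ⟨h4.trans (by decide +kernel), ζ, mk_frame hζ k1 k2 smA (by decide) (by decide +kernel) (by decide +kernel)⟩
  · exact Or.inr (Or.inr (Or.inr (h4.trans (by decide +kernel))))
  · exact Or.inr (Or.inr (Or.inr (h4.trans (by decide +kernel))))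
  · exact Or.inr (Or.inr (Or.inl (h4.trans (by decide +kernel))))
  · exact Or.inr (Or.inr (Or.inl (h4.trans (by decide +kernel))))
  · exact Or.inr (Or.inr (Or.inl (h4.trans (by decide +kernel))))

/-! ### the normaliser in the frame `n = 2` -/

theorem LB_A : ∀ r < 240, (∀ i : Fin 2, dv (![vh 152 159, vh 226 239] i) r = 0) → r ∈ LB := by decide +kernel

/-- **the normaliser of `⟨x, x'⟩` in the frame `n = 2`** : `g` acts on the values as the word `l` -/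
theorem Frame.norm2 {x x' : E2} {l0 : List ℕ} {z : GK} (h : Frame x x' 152 159 l0 ζ z) {g : GK} {u u' : Fin 8 → ZMod 5}
    (h1 : Tv (g * cj z x * g⁻¹) u ζ) (h2 : Tv (g * cj z x' * g⁻¹) u' ζ) {l : List ℕ} (hl : ∀ r ∈ l, r < 240)
    (w1 : wN l u = vh 152 159) (w2 : wN l u' = vh 226 239) : ∃ B : Fin 4 → S2, ∃ s ∈ Zt, g = gw l * (Psi B * s) := by
  have ht : ∀ i : Fin 2, Tv (![cj z x, cj z x'] i) (![vh 152 159, vh 226 239] i) ζ := by
    intro i
    fin_cases i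
    exacts [h.one.tv, h.two.tv]
  obtain ⟨m, hm, s, hs, rfl⟩ := norm_of_conZ h.prim ht (conZ5 h.prim ht (μ := ![mu 152 159, mu 226 239]) (by
      intro i
      fin_cases i
      exacts [smA, sm68])) LB_A (g := g) (V' := ![u, u']) (by
      intro i
      fin_cases i
      exacts [h1, h2]) hl (by
      intro i
      fin_cases i
      exacts [w1, w2])
  obtain ⟨B, s', hs', e⟩ := Psi_form hm hs
  exact ⟨B, s', hs', by rw [mul_assoc, e]⟩

/-- the values of `x ^ i * x' ^ j` -/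
theorem Frame.tv {x x' : E2} {r s : ℕ} {l0 : List ℕ} {z : GK} (h : Frame x x' r s l0 ζ z) (i j : ℕ) :
    Tv (cj z (x ^ i * x' ^ j)) (i • vh r s + j • vh 226 239) ζ :=
  ((one_pow' h.prim h.one i).mul h.prim (one_pow' h.prim h.two j)).tv

/-- **the same for an element of `E₈(2)`** -/
theorem Frame.norm2' {x x' : E2} {l0 : List ℕ} {z : GK} (h : Frame x x' 152 159 l0 ζ z) {g : E2} {i j i' j' : ℕ}
    (h1 : g * x * g⁻¹ = x ^ i * x' ^ j) (h2 : g * x' * g⁻¹ = x ^ i' * x' ^ j') {l : List ℕ} (hl : ∀ r ∈ l, r < 240)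
    (w1 : wN l (i • vh 152 159 + j • vh 226 239) = vh 152 159)
    (w2 : wN l (i' • vh 152 159 + j' • vh 226 239) = vh 226 239) :
    ∃ B : Fin 4 → S2, ∃ s ∈ Zt, cj z g = gw l * (Psi B * s) :=
  h.norm2 (by rw [← map_inv, ← map_mul, ← map_mul, h1]; exact h.tv i j)
    (by rw [← map_inv, ← map_mul, ← map_mul, h2]; exact h.tv i' j') hl w1 w2

/-- **the centraliser** -/
theorem Frame.cent2 {x x' : E2} {l0 : List ℕ} {z : GK} (h : Frame x x' 152 159 l0 ζ z) {g : GK}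
    (h1 : Commute g (cj z x)) (h2 : Commute g (cj z x')) : ∃ B : Fin 4 → S2, ∃ s ∈ Zt, g = Psi B * s := by
  obtain ⟨B, s, hs, e⟩ := h.norm2 (g := g) (by rw [h1.eq, mul_inv_cancel_right]; exact h.one.tv)
    (by rw [h2.eq, mul_inv_cancel_right]; exact h.two.tv) (l := []) (by simp) (by decide +kernel) (by decide +kernel)
  exact ⟨B, s, hs, e.trans (one_mul _)⟩

end Cfsg.Agent.E82.F5
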