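import Cfsg.Agent.E82.F5.R44a

/-!
# S3369: the row `Sp₄(4)` modulo the box `CaseB` (helper40)

* `caseN0` : all the points of type 48; `caseA` : all the points of type 68; `row44`.
-/

set_option autoImplicit false
set_option linter.unusedSectionVars false
set_option maxRecDepth 100000
set_option maxHeartbeats 400000

namespace Cfsg.Agent.E82.F5

open Cfsg Cfsg.Lie
open Cfsg.Agent.H939.L64 (KK E2 LK em aK rE rE_apply rE_mul rE_one rE_inv_self rE_self_inv)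
open Cfsg.Agent.H942.L16 (BF BF_aK BF_symm BF_eq_zero ladd_self)
open Cfsg.Agent.H952.F4 (ev)
open Cfsg.Agent.H952.F4.Scott (scott_form rank_add_ev)
open Cfsg.Agent.Lib.VonDyck (a5 b5 a5_sq b5_pow closure_a5_b5)
open Cfsg.Agent.E82.Fr (IsLog exists_log sq_inj)

attribute [local instance] Cfsg.Agent.H413.L64.charKK

section Grp

variable {S : Type} [Group S] {φ : Fin 4 → A5 →* S} {f : S →* E2} {H : Subgroup E2}

theorem m5 {G : Type*} [Group G] {a b : G} (ha : a ^ 5 = 1) (hb : b ^ 5 = 1) (h : Commute a b) :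
    (a * b) ^ 5 = 1 ∧ (a * b⁻¹) ^ 5 = 1 ∧ (a * b ^ 2) ^ 5 = 1 := by
  refine ⟨by rw [h.mul_pow, ha, hb, one_mul], by rw [h.inv_right.mul_pow, inv_pow, ha, hb, inv_one, one_mul], ?_⟩
  rw [(h.pow_right 2).mul_pow, ← pow_mul, mul_comm 2, pow_mul, ha, hb, one_pow, one_mul]

theorem dimE {p q w r s : E2} {k : ℕ} (hp : p ^ 5 = 1) (hq : q ^ 5 = 1) (hc : Commute p q) (h1 : Commute p w)
    (h2 : w * q * w⁻¹ = q⁻¹) (h3 : q ≠ 1) (hk : ¬ 5 ∣ k) (hr : r = (p * q) ^ k) (hs : s = (p * q⁻¹) ^ k) :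
    ∃ C, (C = 68 ∨ C = 48) ∧ cf p + cf q + cf r + cf s + 2 * C = 248 + 5 * c2 p q := by
  have h4 := dim5 hp hq hc
  obtain ⟨t1, t2, t3⟩ := third (G := E2) hq h1 h2 h3
  obtain ⟨m1, m2, m3⟩ := m5 (G := E2) hp hq hc
  have e2 : cf r = cf (p * q) := (congrArg cf hr).trans (cf_pow m1 hk)
  have e3 : cf s = cf (p * q ^ 4) := ((congrArg cf hs).trans (cf_pow m2 hk)).trans (congrArg (fun a => cf (p * a)) t3.symm)
  have e4 : cf (p * q ^ 3) = cf (p * q ^ 2) := (congrArg cf t1.symm).trans (fd_conj w (p * q ^ 2))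
  refine ⟨cf (p * q ^ 2), fd5 m3 t2, ?_⟩
  omega

theorem D44.dim (d : D44 φ) (hf : Function.Injective f) : ∃ C, (C = 68 ∨ C = 48) ∧
    cf (f (φ 0 x5)) + cf (f (φ 1 x5)) + cf (f (φ 2 x5)) + cf (f (φ 3 x5)) + 2 * C =
      248 + 5 * c2 (f (φ 0 x5)) (f (φ 1 x5)) := by
  obtain ⟨k, hk, h1, h2⟩ := d.k5
  exact dimE (w := f (φ 1 w5)) (x_pow f 0) (x_pow f 1) ((d.c01 x5 x5).map f) ((d.c01 x5 w5).map f) (inv_w (f.comp (φ 1)))
    (fun h => d.ne 1 (hf (h.trans (map_one f).symm))) hk (by rw [h1, map_pow, map_mul]) (by rw [h2, map_pow, map_mul, map_inv])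

theorem D44.fixd (d : D44 φ) {v : LK} (hv : v ≠ 0) (h0 : ∀ g, rE (f (φ 0 g)) v = v) (h3 : ∀ g, rE (f (φ 3 g)) v = v) :
    Fixd f :=
  ⟨v, hv, fix_of_closure d.gen (by
    rintro _ (rfl | rfl | rfl | rfl)
    exacts [h0 _, h0 _, h3 _, h3 _])⟩

theorem grpN {G : Type*} [Group G] {u w x x' t : G} (k0 : t = u * w * u⁻¹) (k1 : w * w = 1) (k2 : u * x * u⁻¹ = x'⁻¹)
    (k3 : w * x * w⁻¹ = x⁻¹) (k6 : u * u = 1) : t * x' * t⁻¹ = x'⁻¹ ∧ t * t = 1 ∧ t = u * (w * u) := by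
  subst k0
  have k4 : x' = u * x⁻¹ * u⁻¹ := by rw [← conj_inv, k2, inv_inv]
  have k5 : w * x⁻¹ * w⁻¹ = x := by rw [← conj_inv, k3, inv_inv]
  refine ⟨?_, by rw [conj_mul, k1, mul_one, mul_inv_cancel], by rw [inv_eq_of_mul_eq_one_right k6, mul_assoc]⟩
  calc u * w * u⁻¹ * x' * (u * w * u⁻¹)⁻¹ = u * (w * x⁻¹ * w⁻¹) * u⁻¹ := by rw [k4]; group
    _ = _ := by rw [k5, k2]

theorem w_sq {G : Type*} [Group G] (F : A5 →* G) : F w5 * F w5 = 1 := by rw [← map_mul, w5_sq, map_one]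

theorem x_w {G : Type*} [Group G] (F : A5 →* G) : F x5 * F w5 = F w5 * (F x5)⁻¹ := by
  have k3 : x5 * w5 = w5 * x5⁻¹ := by decide +kernel
  rw [← map_mul, k3, map_mul, map_inv]

theorem caseN0E (F0 F2 F3 : A5 →* E2) {x1 t1 : E2} {g3 : A5} (v0 : VH F0 x1 t1) (c23 : ∀ g h, Commute (F2 g) (F3 h))
    (h3 : cf (F3 x5) = 48) (hE : Fx (F0 x5) ⊓ Fx x1 = Fx (F2 x5) ⊓ Fx (F3 x5))
    (e1 : F3 g3 = F0 w5 * F2 w5 * (F0 w5)⁻¹) (e2 : F0 w5 * F2 x5 * (F0 w5)⁻¹ = (F3 x5)⁻¹)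
    (h8 : c2 (F0 x5) x1 = 8) (h16 : c2 (F0 b5) x1 = 16) :
    ∃ s : LK, s ≠ 0 ∧ (∀ g, rE (F0 g) s = s) ∧ ∀ g, rE (F3 g) s = s := by
  have k := grpN (G := E2) e1 (w_sq F2) e2 (inv_w F2) (w_sq F0)
  obtain ⟨k1, k2', k0⟩ := k
  have vh2 : VH F2 (F3 x5) (F3 g3) := ⟨map_pow_one F3 x5_pow, h3, fun g => c23 g x5, fun g => c23 g g3, k1, k2'⟩
  have h8' : c2 (F2 x5) (F3 x5) = 8 := by
    unfold c2 at h8 ⊢
    rw [← hE, h8]
  obtain ⟨⟨h, hh, hne⟩, hall⟩ := v5d _ _ _ vh2 h8'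
  obtain ⟨c, hc⟩ := exists_log (r := em (F2 w5)) (by rw [← map_mul, w_sq F2, map_one])
  have hc' : ∀ v, BF c v ^ 2 = BF v (rE (F2 w5) v) := hc
  obtain ⟨s, hs⟩ : ∃ s, s = pr5 (F2 x5) c := ⟨_, rfl⟩
  have s3 : ∀ g, rE (F3 g) s = s := fun g => by
    have k3 : rE (F3 g) c = c := hc.comm (by rw [← map_mul, ← map_mul, (c23 w5 g).eq])
    rw [hs, pr5_comm (c23 x5 g).symm, k3]
  have sE : s ∈ Fx (F2 x5) ⊓ Fx (F3 x5) := ⟨by rw [hs]; exact pr5_mem (map_pow_one F2 x5_pow) c, mem_eig1.2 (s3 x5)⟩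
  have sb : ∀ v ∈ Fx (F2 x5) ⊓ Fx (F3 x5), BF s v = BF c v := fun v hv => by
    rw [hs, BF_pr5 c (mem_eig1.1 hv.1)]
  have s0 : s ≠ 0 := fun h0 => hne (by
    have k3 := sb h hh
    rw [h0, map_zero, LinearMap.zero_apply] at k3
    have k4 := hc' h
    rw [← k3, zero_pow two_ne_zero] at k4
    exact k4.symm)
  have wE : ∀ v ∈ Fx (F0 x5) ⊓ Fx x1, rE (F0 w5) v ∈ Fx (F0 x5) ⊓ Fx x1 := by
    intro v hv
    refine ⟨mem_eig1.2 ?_, mem_eig1.2 (by rw [rE_comm (v0.cm w5).symm, mem_eig1.1 hv.2])⟩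
    have k4 : rE (F0 x5)⁻¹ v = v := by
      conv_lhs => rw [← mem_eig1.1 hv.1]
      exact rE_inv_self _ v
    rw [← rE_mul, x_w F0, rE_mul, k4]
  have ww : ∀ v, rE (F0 w5) (rE (F0 w5) v) = v := fun v => by rw [← rE_mul, w_sq F0, rE_one]
  have sw : rE (F0 w5) s = s := by
    rw [← sub_eq_zero]
    refine nondeg2 (map_pow_one F0 x5_pow) v0.p2 (v0.cm x5) (sub_mem (wE s (hE.ge sE)) (hE.ge sE)) fun v hv => ?_
    rw [map_sub, LinearMap.sub_apply, sub_eq_zero, ← BF_rE (F0 w5), ww, sb _ (hE.le (wE v hv)), sb v (hE.le hv)]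
    refine sq_inj ?_
    have k3 : rE (F3 g3) v = rE (F2 w5) v := hall v (hE.le hv)
    have k4 : rE (F3 g3) v = rE (F0 w5) (rE (F2 w5) (rE (F0 w5) v)) := by rw [k0, rE_mul, rE_mul]
    rw [hc', hc', ← k3, k4, ← BF_rE (F0 w5) v, ww]
  exact ⟨s, s0, v5c _ _ _ v0 (Or.inr ⟨h8, h16⟩) s (hE.ge sE) sw, s3⟩

/-- **all the points of type 48** -/
theorem caseN0 (d : D44 φ) (d' : D44 (swp φ)) (h1 : cf (f (φ 1 x5)) = 48) (h3 : cf (f (φ 3 x5)) = 48)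
    (h8 : c2 (f (φ 0 x5)) (f (φ 1 x5)) = 8) (h16 : c2 (f (φ 0 b5)) (f (φ 1 x5)) = 16) : Fixd f := by
  obtain ⟨g3, hg3⟩ := d.sw23 w5
  have e1 : f (φ 3 g3) = f (φ 0 w5) * f (φ 2 w5) * (f (φ 0 w5))⁻¹ := by rw [← hg3, map_mul, map_mul, map_inv]
  have e2 : f (φ 0 w5) * f (φ 2 x5) * (f (φ 0 w5))⁻¹ = (f (φ 3 x5))⁻¹ := by
    rw [← map_inv, ← map_mul, ← map_mul, d.conj23, map_inv]
  obtain ⟨s, s0, s1, s3⟩ := caseN0E (f.comp (φ 0)) (f.comp (φ 2)) (f.comp (φ 3)) (d.vh f h1)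
    (fun g h => (d.c23 g h).map f) h3 (fx_eq d d' f) e1 e2 h8 h16
  exact d.fixd s0 s1 s3

theorem caseAE (F0 F3 : A5 →* E2) {x1 x2 : E2} (p1 : x1 ^ 5 = 1) (p2 : x2 ^ 5 = 1) (c0 : ∀ g, Commute (F0 g) x1)
    (c3 : ∀ g, Commute (F3 g) x2) (n0 : F0 x5 ≠ 1) (n1 : x1 ≠ 1) (n2 : x2 ≠ 1) (n3 : F3 x5 ≠ 1) (h1 : cf x1 = 68)
    (h2 : cf x2 = 68) (hE : Fx (F0 x5) ⊓ Fx x1 = Fx x2 ⊓ Fx (F3 x5)) (h32 : c2 (F0 x5) x1 = 32)
    (p : qe (cf (F3 b5)) = 2 * qe (cf (F0 b5))) : ∃ s : LK, s ≠ 0 ∧ (∀ g, rE (F0 g) s = s) ∧ ∀ g, rE (F3 g) s = s := by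
  obtain ⟨D0, a0, b0⟩ := scottA F0 p1 c0
  obtain ⟨D3, a3, b3⟩ := scottA F3 p2 c3
  have l0 := c2_le F0 c0
  have l3 := c2_le F3 c3
  have t0 := ty15 (map_pow_one F0 b5_pow) p1 (c0 b5) (b_ne n0) n1
  have t3 := ty15 (map_pow_one F3 b5_pow) p2 (c3 b5) (b_ne n3) n2
  have e23 : c2 (F3 x5) x2 = 32 := by
    rw [c2_comm]
    unfold c2 at h32 ⊢
    rw [← hE, h32]
  have m0 : D0 ≤ Fx (F0 x5) ⊓ Fx x1 := fun v hv => ⟨mem_eig1.2 ((a0 v hv).2 x5), (a0 v hv).1⟩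
  have m3 : D3 ≤ Fx (F0 x5) ⊓ Fx x1 := fun v hv => hE.ge ⟨(a3 v hv).1, mem_eig1.2 ((a3 v hv).2 x5)⟩
  have k1 := Submodule.finrank_sup_add_finrank_inf_eq D0 D3
  have k2' : Module.finrank KK ↥(D0 ⊔ D3) ≤ c2 (F0 x5) x1 := Submodule.finrank_mono (sup_le m0 m3)
  rw [h1] at t0 b0
  rw [h2] at t3 b3
  rw [h32] at b0 l0 k2'
  rw [e23] at b3 l3
  have key : 82 ≤ c2 (F0 b5) x1 + c2 (F3 b5) x2 := by
    revert t0 t3 l0 l3 p
    generalize c2 (F0 b5) x1 = a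
    generalize c2 (F3 b5) x2 = b
    generalize cf (F0 b5) = a'
    generalize cf (F3 b5) = b'
    intro p l0 l3 t0 t3
    simp only [L15, List.mem_cons, Prod.mk.injEq, List.not_mem_nil, or_false] at t0 t3
    have u0 : a = 48 ∨ (a = 34 ∧ a' = 134) := by omega
    have u3 : b = 48 ∨ (b = 34 ∧ b' = 134) := by omega
    rcases u0 with u0 | u0 <;> rcases u3 with u3 | u3
    · omega
    · omega
    · omega
    · rw [u0.2, u3.2] at p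
      exact absurd p (by decide)
  have k3 : D0 ⊓ D3 ≠ ⊥ := fun h0 => by
    rw [h0, finrank_bot] at k1
    omega
  obtain ⟨v, hv, hv0⟩ := (Submodule.ne_bot_iff _).1 k3
  exact ⟨v, hv0, (a0 v hv.1).2, (a3 v hv.2).2⟩

/-- **all the points of type 68** -/
theorem caseA (d : D44 φ) (d' : D44 (swp φ)) (hf : Function.Injective f) (h1 : cf (f (φ 1 x5)) = 68)
    (h2 : cf (f (φ 2 x5)) = 68) (h32 : c2 (f (φ 0 x5)) (f (φ 1 x5)) = 32) : Fixd f := by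
  have ne : ∀ i, f (φ i x5) ≠ 1 := fun i h => d.ne i (hf (h.trans (map_one f).symm))
  have p := d.par f
  have y23 : cf (f (φ 2 b5)) = cf (f (φ 3 b5)) := cf_isConj d'.y01 f
  rw [y23] at p
  obtain ⟨s, s0, s1, s3⟩ := caseAE (f.comp (φ 0)) (f.comp (φ 3)) (x_pow f 1) (x_pow f 2) (fun g => (d.c01 g x5).map f)
    (fun g => ((d.c23 x5 g).map f).symm) (ne 0) (ne 1) (ne 2) (ne 3) h1 h2 (fx_eq d d' f) h32 p
  exact d.fixd s0 s1 s3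

theorem swp_swp (φ : Fin 4 → A5 →* S) : swp (swp φ) = φ := by
  funext i
  fin_cases i <;> rfl

theorem ty48 {y x : E2} (hy : y ^ 3 = 1) (hx : x ^ 5 = 1) (hc : Commute y x) (y1 : y ≠ 1) (x1 : x ≠ 1) (h : cf x = 48) :
    (c2 y x = 16 ∧ cf y = 80) ∨ (c2 y x = 20 ∧ cf y = 92) := by
  have t := ty15 hy hx hc y1 x1
  rw [h] at t
  revert t
  generalize c2 y x = a
  generalize cf y = b
  intro t
  simp only [L15, List.mem_cons, Prod.mk.injEq, List.not_mem_nil, or_false] at t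
  omega

theorem D44.ne' (d : D44 φ) (hf : Function.Injective f) (i : Fin 4) : f (φ i x5) ≠ 1 :=
  fun h => d.ne i (hf (h.trans (map_one f).symm))

theorem D44.ty (d : D44 φ) (hf : Function.Injective f) (h : cf (f (φ 1 x5)) = 48) :
    (c2 (f (φ 0 b5)) (f (φ 1 x5)) = 16 ∧ cf (f (φ 0 b5)) = 80) ∨ (c2 (f (φ 0 b5)) (f (φ 1 x5)) = 20 ∧ cf (f (φ 0 b5)) = 92) :=
  ty48 (y_pow f 0) (x_pow f 1) ((d.c01 b5 x5).map f) (b_ne (F := f.comp (φ 0)) (d.ne' hf 0)) (d.ne' hf 1) h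

theorem D44.vb (d : D44 φ) (hf : Function.Injective f) (h : cf (f (φ 1 x5)) = 48)
    (h16 : c2 (f (φ 0 x5)) (f (φ 1 x5)) = 16) : cf (f (φ 0 b5)) = 80 := by
  have k := v5b (f.comp (φ 0)) (f (φ 1 x5)) (f (φ 1 w5)) (d.vh f h) h16
  have k0 : c2 (f (φ 0 b5)) (f (φ 1 x5)) = 16 := k
  have k1 := d.ty hf h
  omega

theorem case68 (d : D44 φ) (d' : D44 (swp φ)) (hf : Function.Injective f) (h0 : cf (f (φ 0 x5)) = 68)
    (h2 : cf (f (φ 2 x5)) = 68) : Fixd f := by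
  have e23 := d.cf23 f
  have e01 : cf (f (φ 1 x5)) = cf (f (φ 0 x5)) := d'.cf23 f
  obtain ⟨C, hC, hd⟩ := d.dim hf
  have h3 := frame (f (φ 0 x5)) (f (φ 1 x5)) (f (φ 0 w5))
    ⟨x_pow f 0, x_pow f 1, d.ne' hf 0, (d.c01 x5 x5).map f, inv_w (f.comp (φ 0)), (d.c01 w5 x5).map f⟩ (e01.trans h0)
  have h4 : c2 (f (φ 0 x5)) (f (φ 1 x5)) = 32 := by
    rcases h3 with h3 | h3 | h3 | h3
    · have := h3.1
      omega
    · exact h3.1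
    · omega
    · omega
  exact caseA d d' hf (e01.trans h0) h2 h4

theorem case48 (d : D44 φ) (d' : D44 (swp φ)) (hf : Function.Injective f) (h0 : cf (f (φ 0 x5)) = 48)
    (h2 : cf (f (φ 2 x5)) = 48) : Fixd f := by
  have e23 := d.cf23 f
  have e01 : cf (f (φ 1 x5)) = cf (f (φ 0 x5)) := d'.cf23 f
  obtain ⟨C, hC, hd⟩ := d.dim hf
  have p := d.par f
  have c23 := c2_eq23 d d' f
  have u0 := d.ty hf (e01.trans h0)
  have u2 : (c2 (f (φ 2 b5)) (f (φ 3 x5)) = 16 ∧ cf (f (φ 2 b5)) = 80) ∨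
      (c2 (f (φ 2 b5)) (f (φ 3 x5)) = 20 ∧ cf (f (φ 2 b5)) = 92) := d'.ty hf (e23.trans h2)
  have hc : c2 (f (φ 0 x5)) (f (φ 1 x5)) = 16 ∨ c2 (f (φ 0 x5)) (f (φ 1 x5)) = 8 := by omega
  rcases hc with hc | hc
  · have k0 := d.vb hf (e01.trans h0) hc
    have k2' : cf (f (φ 2 b5)) = 80 := d'.vb hf (e23.trans h2) (c23.trans hc)
    rw [k0, k2'] at p
    exact absurd p (by decide)
  · rcases u0 with u0 | u0
    · exact caseN0 d d' (e01.trans h0) (e23.trans h2) hc u0.1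
    · rcases u2 with u2 | u2
      · have d'' : D44 (swp (swp φ)) := by rw [swp_swp]; exact d
        exact caseN0 d' d'' (e23.trans h2) (e01.trans h0) (c23.trans hc) u2.1
      · rw [u0.2, u2.2] at p
        exact absurd p (by decide)

/-- **the row `Sp₄(4)` modulo the box `CaseB`** -/
theorem row44 (hs : Small S) (ho : Out2 S) (d : D44 φ) (d' : D44 (swp φ)) (hB : CaseB φ) (hB' : CaseB (swp φ)) : ROW S := by
  intro f H hS
  rcases fd5 (x_pow (φ := φ) f 0) (d.ne' hS.inj 0) with h0 | h0 <;>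
    rcases fd5 (x_pow (φ := φ) f 2) (d.ne' hS.inj 2) with h2 | h2
  · exact hS.end_fix hs ho (case68 d d' hS.inj h0 h2)
  · exact hB f H hS h0 h2
  · exact hB' f H hS h2 h0
  · exact hS.end_fix hs ho (case48 d d' hS.inj h0 h2)

end Grp

end Cfsg.Agent.E82.F5
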