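import Cfsg.Agent.E82.Fr.Tor
import Cfsg.Agent.E82.End
import Cfsg.Agent.H942.L16.Log
import Cfsg.Agent.Lib.VonDyck

/-!
# S3369: the `5²`-frames, the interface (helper40)

* `A5`, `x5`, `w5` : an `A₅` of the socle is a homomorphism `φ : A5 →* S`; `φ x5` has order 5, `φ b5` order 3, `φ w5` inverts
  `φ x5` and commutes with `φ a5`;
* `Fx g`, `c2 g h` : fixed spaces; `Pair x x' w` : two partners;
* the roots are `a = 152, 159, 226, 239`, `b = 121, 126, 141, 135` as in `E82/Fr/Frm.lean`;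
  `x' = h_{a₃}(ζ) h_{a₄}(ζ²)`, and `x = h_{a₁}(ζ) h_{a₂}(ζ²)` (`n = 2`) or `x = h_{b₃}(ζ) h_{b₄}(ζ²)` (`n = 6`);
* the boxes `FRAME`, `N6A`, `N6B`, `V5B`, `V5C`, `V5G`, `V5D`;
* the data on the groups: `D44` (`Sp₄(4)`, needed in both orientations), `D8` (`Ω₈⁺(2)`); the box `CaseB`.
-/

set_option autoImplicit false
set_option maxRecDepth 100000

namespace Cfsg.Agent.E82.F5

open Cfsg Cfsg.Lie Cfsg.Lie.ChevalleyDatum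
open Cfsg.Agent.Tits.Roots Cfsg.Agent.ChevalleyStructure.CoxeterGeomTypes Cfsg.Agent.Nodes.RGDChev
open Cfsg.Agent.BpExc.FamUntw (phi)
open Cfsg.Agent.H897.T5Frame (bc)
open Cfsg.Agent.H897.T5UntwRow (A8)
open Cfsg.Agent.H939.L64 (KK E2 LK em aK rE brK)
open Cfsg.Agent.H943.RepAdd (eig)
open Cfsg.Agent.H942.L16 (BF)
open Cfsg.Agent.H201.L34 (gw)
open Cfsg.Agent.Lib.VonDyck (a5 b5)
open Cfsg.Agent.E82.Fr (GK One)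

attribute [local instance] Cfsg.Agent.H413.L64.charKK

/-! ### `A₅` -/

/-- the alternating group -/
abbrev A5 : Type := ↥(alternatingGroup (Fin 5))

/-- the element of order five -/
def x5 : A5 := a5 * b5

/-- the involution which inverts `x5` and commutes with `a5` -/
def w5 : A5 := (b5 * a5 * b5⁻¹ * a5) ^ 2 * b5

theorem x5_pow : x5 ^ 5 = 1 := by decide

theorem w5_sq : w5 * w5 = 1 := by decide

theorem w5_x5 : w5 * x5 * w5⁻¹ = x5⁻¹ := by decide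

theorem w5_a5 : w5 * a5 = a5 * w5 := by decide

/-! ### fixed spaces -/

/-- the fixed space -/
noncomputable abbrev Fx (g : E2) : Submodule KK LK := eig rE g 1

/-- the dimension of the common fixed space -/
noncomputable def c2 (g h : E2) : ℕ := Module.finrank KK ↥(Fx g ⊓ Fx h)

/-- the derived algebra of the common fixed space -/
noncomputable def DI (g h : E2) : Submodule KK LK :=
  Submodule.span KK {v | ∃ p ∈ Fx g ⊓ Fx h, ∃ q ∈ Fx g ⊓ Fx h, v = brK p q}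

/-- two partners: `w` inverts `x` and centralises `x'` -/
structure Pair (x x' w : E2) : Prop where
  p1 : x ^ 5 = 1
  p2 : x' ^ 5 = 1
  ne : x ≠ 1
  cm : Commute x x'
  inv : w * x * w⁻¹ = x⁻¹
  cw : Commute w x'

/-! ### the frames -/

/-- the values of `h_r(ζ) h_s(ζ²)` on the simple roots -/
def vh (r s : ℕ) : Fin 8 → ZMod 5 := fun j =>
  ((bc A8 (sr j) (vec chevE8 8 r) + 2 * bc A8 (sr j) (vec chevE8 8 s) : ℤ) : ZMod 5)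

/-- `a₁ → a₂ → -a₁`, `a₃ → a₄ → -a₃`, `b₁ ↔ b₂`, `b₃ ↔ b₄` -/
def LN2 : List ℕ := [226, 146, 140, 152, 127, 124]

/-- `a₃ → a₄ → -a₃`, `b₃ → b₄ → -b₃`, the roots `a₁ a₂ b₁ b₂` are fixed -/
def LN6 : List ℕ := [226, 135, 151, 134]

/-- the frame: `z⁻¹ x z = h_r(ζ) h_s(ζ²)`, `z⁻¹ x' z = h_{a₃}(ζ) h_{a₄}(ζ²)`, and the Frobenius map acts as `gw l` -/
structure Frame (x x' : E2) (r s : ℕ) (l : List ℕ) (ζ : KK) (z : GK) : Prop where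
  prim : IsPrimitiveRoot ζ 5
  one : One x (vh r s) ζ z
  two : One x' (vh 226 239) ζ z
  frob : z⁻¹ * phi chevE8 KK 2 1 z = gw l

/-- **box FRAME** -/
def FRAME : Prop := ∀ x x' w : E2, Pair x x' w → cf x' = 68 →
  (c2 x x' = 16 ∧ ∃ ζ z, Frame x x' 152 159 LN2 ζ z) ∨ (c2 x x' = 32 ∧ ∃ ζ z, Frame x x' 141 135 LN6 ζ z) ∨
    c2 x x' = 20 ∨ c2 x x' = 28

/-- **box N6A** : `x`, `k₁ x ^ m₁ k₁⁻¹`, `k₂ x ^ m₂ k₂⁻¹` is a triple with product one in the centraliser of `x'` -/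
def N6A : Prop := ∀ (x x' w k₁ k₂ : E2) (m₁ m₂ : ℕ), Pair x x' w → cf x' = 68 → c2 x x' = 32 →
  Commute k₁ x' → Commute k₂ x' → x * (k₁ * x ^ m₁ * k₁⁻¹) * (k₂ * x ^ m₂ * k₂⁻¹) = 1 →
    17 ≤ Module.finrank KK ↥(Fx x ⊓ Fx x' ⊓ Fx (k₁ * x ^ m₁ * k₁⁻¹)) ∧
      15 ≤ Module.finrank KK ↥(DI x x' ⊓ Fx (k₁ * x ^ m₁ * k₁⁻¹))

/-- **box N6B** -/
def N6B : Prop := ∀ x x' w : E2, Pair x x' w → cf x' = 68 → c2 x x' = 32 →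
  Module.finrank KK ↥(DI x x') = 28 ∧ (∃ p ∈ DI x x', ∃ q ∈ DI x x', ∃ r ∈ DI x x', brK (brK p q) r ≠ 0) ∧
    ∃ u : E2, (∀ v ∈ DI x x', rE u v = v) ∧ (∀ k : E2, Commute k x' → Commute u (k * x * k⁻¹)) ∧
      ¬ Commute (u * x' * u⁻¹) x'

/-! ### the `A₄A₄` box -/

/-- the hypotheses: `x'` has the centraliser `A₄A₄`, it commutes with the `A₅`; `t` inverts `x'` and commutes with the `A₅` -/
structure VH (φ : A5 →* E2) (x' t : E2) : Prop where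
  p2 : x' ^ 5 = 1
  f48 : cf x' = 48
  cm : ∀ g, Commute (φ g) x'
  ct : ∀ g, Commute (φ g) t
  inv : t * x' * t⁻¹ = x'⁻¹
  sq : t * t = 1

/-- the two types of `V₅` without Steinberg factor -/
def Ty80 (φ : A5 →* E2) (x' : E2) : Prop := c2 (φ x5) x' = 16 ∨ (c2 (φ x5) x' = 8 ∧ c2 (φ b5) x' = 16)

/-- **box V5B** -/
def V5B : Prop := ∀ (φ : A5 →* E2) (x' t : E2), VH φ x' t → c2 (φ x5) x' = 16 → c2 (φ b5) x' = 16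

/-- **box V5C** -/
def V5C : Prop := ∀ (φ : A5 →* E2) (x' t : E2), VH φ x' t → Ty80 φ x' →
  ∀ v ∈ Fx (φ x5) ⊓ Fx x', rE (φ w5) v = v → ∀ g, rE (φ g) v = v

/-- **box V5G** : the same in the algebraic group -/
def V5G : Prop := ∀ (φ : A5 →* E2) (x' t : E2), VH φ x' t → Ty80 φ x' →
  ∀ u : GK, Commute u (em (φ x5)) → Commute u (em x') → Commute u (em (φ w5)) → ∀ g, Commute u (em (φ g))

/-- **box V5D** -/
def V5D : Prop := ∀ (φ : A5 →* E2) (x' t : E2), VH φ x' t → c2 (φ x5) x' = 8 →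
  (∃ h ∈ Fx (φ x5) ⊓ Fx x', BF h (rE (φ w5) h) ≠ 0) ∧ ∀ h ∈ Fx (φ x5) ⊓ Fx x', rE t h = rE (φ w5) h

/-! ### the groups -/

section

variable {S : Type} [Group S]

/-- **the data on `Sp₄(4)`** : `φ 0 × φ 1 = Sp₂(4) × Sp₂(4)`, `φ 2 × φ 3 = Ω₄⁺(4)`, or conversely -/
structure D44 (φ : Fin 4 → A5 →* S) : Prop where
  c01 : ∀ g h, Commute (φ 0 g) (φ 1 h)
  c23 : ∀ g h, Commute (φ 2 g) (φ 3 h)
  ne : ∀ i, φ i x5 ≠ 1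
  pts : ∃ k : ℕ, (k = 1 ∨ k = 3) ∧ φ 2 x5 = (φ 0 x5 * φ 1 x5) ^ k ∧ φ 3 x5 = (φ 0 x5 * (φ 1 x5)⁻¹) ^ k
  sw01 : ∀ g, ∃ h, φ 2 w5 * φ 0 g * (φ 2 w5)⁻¹ = φ 1 h
  sw23 : ∀ g, ∃ h, φ 0 w5 * φ 2 g * (φ 0 w5)⁻¹ = φ 3 h
  y01 : IsConj (φ 0 b5) (φ 1 b5)
  ym : IsConj (φ 0 b5 * φ 1 b5) (φ 2 b5)
  yd : IsConj (φ 0 b5 * (φ 1 b5)⁻¹) (φ 2 b5)
  gen : Subgroup.closure {φ 0 a5, φ 0 b5, φ 3 a5, φ 3 b5} = ⊤

/-- the other orientation -/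
def swp (φ : Fin 4 → A5 →* S) : Fin 4 → A5 →* S := ![φ 2, φ 3, φ 0, φ 1]

/-- **box B** (helper92) : the frame is `n = 2` for `x = f (φ 0 x5)`, `x' = f (φ 1 x5)` -/
def CaseB (φ : Fin 4 → A5 →* S) : Prop := ∀ (f : S →* E2) (H : Subgroup E2), Sit f H →
  cf (f (φ 0 x5)) = 68 → cf (f (φ 2 x5)) = 48 → False

/-- `r` is in the group generated by the commuting elements `p`, `q` -/
def Sp2 (p q r : S) : Prop := ∃ i j : ℕ, r = p ^ i * q ^ j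

/-- the elements which fix the vector of LEMMA A8 -/
def A8set (y : Fin 4 → S) : Set S := {g | ∃ (i : Fin 3) (r : S), r * r = 1 ∧ r * y i.castSucc * r⁻¹ = (y i.castSucc)⁻¹ ∧
  (∀ j : Fin 3, j ≠ i → Commute r (y j.castSucc)) ∧ Commute g r ∧
    (g * y i.castSucc * g⁻¹ = y i.castSucc ∨ g * y i.castSucc * g⁻¹ = (y i.castSucc)⁻¹)}

/-- **the data on `Ω₈⁺(2)`** : `φ 0 × φ 1 = Ω₄⁻(2) × Ω₄⁻(2)`, `ρ` is a triality which normalises `⟨φ 0 x5, φ 1 x5⟩`, `σ` is induced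
by a transvection, `y i` is of order three on the plane `P i` -/
structure D8 (φ : Fin 2 → A5 →* S) (ρ σ : MulAut S) (y : Fin 4 → S) : Prop where
  card : Nat.card S = 174182400
  aut : Nat.card (MulAut S) = Nat.card S * 6
  c01 : ∀ g h, Commute (φ 0 g) (φ 1 h)
  ne : ∀ i, φ i x5 ≠ 1
  x01 : IsConj (φ 0 x5) (φ 1 x5)
  yb : ∀ i, IsConj (φ i b5) (y 0)
  ym : IsConj (φ 0 b5 * φ 1 b5) (y 0 * y 1)
  yd : IsConj (φ 0 b5 * (φ 1 b5)⁻¹) (y 0 * y 1)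
  s1 : ∀ i, Sp2 (φ 0 x5) (φ 1 x5) (ρ (φ i x5))
  s2 : ∀ i, Sp2 (ρ (φ 0 x5)) (ρ (φ 1 x5)) (φ i x5)
  p1 : ∃ k : ℕ, ¬ 5 ∣ k ∧ IsConj ((φ 0 x5 * φ 1 x5) ^ k) (ρ (φ 0 x5))
  p2 : ∃ k : ℕ, ¬ 5 ∣ k ∧ IsConj ((φ 0 x5 * φ 1 x5 ^ 2) ^ k) (ρ (ρ (φ 0 x5)))
  gen : Subgroup.closure {φ 1 a5, φ 1 b5, ρ (φ 1 a5), ρ (φ 1 b5)} = ⊤
  cent : ∀ c : S, Commute c (φ 0 a5) → Commute c (φ 0 b5) → c ^ 5 = 1 → ∃ g, c = φ 1 g
  y3 : ∀ i, y i ^ 3 = 1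
  yc : ∀ i j, Commute (y i) (y j)
  yne : y 0 ≠ 1 ∧ y 0 * y 1 ≠ 1 ∧ y 0 * y 1 * y 2 ≠ 1
  y1 : ∀ i, IsConj (y i) (y 0)
  y2 : ∀ i j, i < j → IsConj (y i * y j) (y 0 * y 1) ∧ IsConj (y i * (y j)⁻¹) (y 0 * y 1)
  y4 : IsConj (y 0 * y 1 * y 2 * y 3) (ρ (y 0)) ∧ IsConj (y 0 * y 1 * y 2 * (y 3)⁻¹) (ρ (ρ (y 0)))
  sg : ∀ i j : Fin 4, i ≠ j → ∃ r : S, r * r = 1 ∧ ∀ k, r * y k * r⁻¹ = if k = i ∨ k = j then (y k)⁻¹ else y k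
  rA : IsConj (ρ (ρ (ρ (y 0)))) (y 0)
  rd : IsConj (ρ (y 0 * y 1)) (y 0 * y 1)
  sA : IsConj (σ (y 0)) (y 0)
  sB : IsConj (σ (ρ (y 0))) (ρ (ρ (y 0)))
  gen8 : Subgroup.closure ({y 0, y 1, y 2} ∪ A8set y) = ⊤

end

end Cfsg.Agent.E82.F5
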