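import Mathlib.LinearAlgebra.Matrix.Determinant.Basic
import Mathlib.LinearAlgebra.Matrix.Trace
import Mathlib.RingTheory.RootsOfUnity.PrimitiveRoots
import Mathlib.Algebra.CharP.Two
import Mathlib.Data.ZMod.Basic
import Mathlib.Tactic.NoncommRing
import Mathlib.Tactic.LinearCombination

/-!
# S3369: five-dimensional self-dual modules of `A₅` in characteristic two (helper40)

`A ^ 2 = (A X) ^ 3 = X ^ 5 = 1`, `X` is diagonal, `W` commutes with `A` and inverts `X`, `P` is an invariant form.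
-/

set_option autoImplicit false
set_option linter.unusedSectionVars false
set_option maxRecDepth 100000
set_option maxHeartbeats 400000

namespace Cfsg.Agent.E82.F5

open Matrix

/-! ### identities in a ring -/

section Ring

variable {R : Type*} [Ring R] {A X Y W E : R}

theorem ringA (h2 : ∀ a : R, a + a = 0) (aa : A * A = 1) (xy : X * Y = 1) (yx : Y * X = 1) (x3 : X * X * X = Y * Y)
    (h1 : A * X * A = Y * A * Y) (hW : A * W = Y * Y * A * X * X * A * Y * Y) (hF : A * X + Y * A = 1 + E)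
    (xe : X * E = E) (ex : E * X = E) (ae : A * E = E) (ea : E * A = E) :
    A = (1 + X * X + Y * Y) * (W + X + Y) := by
  have y3 : Y * Y * Y = X * X := by linear_combination (norm := noncomm_ring) -x3 * Y + X * X * xy
  have s1 : X * A + A * Y = 1 + E := by
    linear_combination (norm := noncomm_ring) A * hF * A - aa * (X * A) - (A * Y) * aa + aa + ae * A + ea
  have s2 : A * (X + Y) = (X + Y) * A := by
    linear_combination (norm := noncomm_ring) hF + s1 + h2 (1 + E) - h2 (X * A) - h2 (Y * A)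
  have s3 : A * X * X * A = (X + Y) * (Y * A * Y) + 1 := by
    linear_combination (norm := noncomm_ring) s2 * (X * A) + (X + Y) * h1 - A * yx * A - aa - h2 1
  have s4 : X * A * X = A + X + E := by
    linear_combination (norm := noncomm_ring) X * hF - xy * A + xe - h2 A
  have s5 : X * X * A * X * X = A + X + Y * Y := by
    linear_combination (norm := noncomm_ring) X * s4 * X + s4 + x3 + xe * X + ex + h2 E
  have c1 : Y * Y * (X + Y) = (X + Y) * (Y * Y) := by
    linear_combination (norm := noncomm_ring) Y * yx - xy * Y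
  have s6 : A * W = (X + Y) * (X * X * A * X * X) + X := by
    linear_combination (norm := noncomm_ring) hW + Y * Y * s3 * (Y * Y) + c1 * (Y * A * Y * Y * Y) +
      (X + Y) * y3 * (A * Y * Y * Y) + (X + Y) * (X * X * A) * y3 + y3 * Y + X * xy
  have s7 : A * W = (X + Y) * A + 1 + (X + Y) := by
    linear_combination (norm := noncomm_ring) s6 + (X + Y) * s5 + yx + xy * Y + y3 + h2 (X * X)
  have s8 : W + X + Y = (1 + X + Y) * A := by
    linear_combination (norm := noncomm_ring) A * s7 - aa * W + s2 * A + (X + Y) * aa + s2 + h2 (X + Y)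
  have s9 : (1 + X * X + Y * Y) * (1 + X + Y) = 1 := by
    linear_combination (norm := noncomm_ring) x3 + X * xy + Y * yx + y3 + h2 X + h2 Y + h2 (X * X) + h2 (Y * Y)
  rw [s8, ← mul_assoc, s9, one_mul]

theorem ring_inv (aa : A * A = 1) (xy : X * Y = 1) (yx : Y * X = 1) (h1 : A * X * A = Y * A * Y) :
    A * Y * A = X * A * X := by
  have k1 : A * Y * A * (A * X * A) = 1 := by
    linear_combination (norm := noncomm_ring) A * Y * aa * (X * A) + A * yx * A + aa
  have k2 : Y * A * Y * (X * A * X) = 1 := by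
    linear_combination (norm := noncomm_ring) Y * A * yx * (A * X) + Y * aa * X + yx
  linear_combination (norm := noncomm_ring) -(A * Y * A) * k2 - (A * Y * A) * h1 * (X * A * X) + k1 * (X * A * X)

theorem ring_sq (aa : A * A = 1) (h1 : A * X * A = Y * A * Y) : A * (X * X) * A = Y * (A * (Y * Y) * A) * Y := by
  linear_combination (norm := noncomm_ring) -(A * X) * aa * (X * A) + h1 * (A * X * A) + (Y * A * Y) * h1

theorem ring_b2 (aa : A * A = 1) (yx : Y * X = 1) (h1 : A * X * A = Y * A * Y) : A * X * (A * X) = Y * A := by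
  linear_combination (norm := noncomm_ring) h1 * X + (Y * A) * yx

end Ring

variable {K : Type*} [Field K] [CharP K 2]

theorem k2 (a : K) : a + a = 0 := CharTwo.add_self_eq_zero a

theorem m2 (a : Matrix (Fin 5) (Fin 5) K) : a + a = 0 := by
  ext i j
  exact k2 _

theorem sq_one {a : K} (h : a * a = 1) : a = 1 := by
  have h1 : (a - 1) * (a - 1) = 0 := by linear_combination h - k2 a + k2 (1 : K)
  exact sub_eq_zero.1 (mul_self_eq_zero.1 h1)

/-- an invertible matrix has a non-zero diagonal -/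
theorem exists_perm {W W' : Matrix (Fin 5) (Fin 5) K} (h : W * W' = 1) : ∃ σ : Equiv.Perm (Fin 5), ∀ i, W (σ i) i ≠ 0 := by
  by_contra h1
  push Not at h1
  have h2 : W.det = 0 := by
    rw [Matrix.det_apply']
    refine Finset.sum_eq_zero fun σ _ => ?_
    obtain ⟨i, hi⟩ := h1 σ
    rw [Finset.prod_eq_zero (f := fun i => W (σ i) i) (Finset.mem_univ i) hi, mul_zero]
  have h3 := congrArg Matrix.det h
  rw [Matrix.det_mul, h2, zero_mul, Matrix.det_one] at h3
  exact zero_ne_one h3

/-! ### the counts -/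

/-- the pairs of different indices -/
def prs : List (Fin 5 × Fin 5) := [(0, 1), (0, 2), (0, 3), (0, 4), (1, 0), (1, 2), (1, 3), (1, 4), (2, 0), (2, 1), (2, 3), (2, 4),
  (3, 0), (3, 1), (3, 2), (3, 4), (4, 0), (4, 1), (4, 2), (4, 3)]

/-- the number of pairs with the same value -/
def cnt {N : ℕ} (e : Fin 5 → ZMod N) : ℕ := prs.countP fun p => decide (e p.1 = e p.2)

/-- the multiplicity of a value -/
def mlt (e : Fin 5 → ZMod 5) (k : ZMod 5) : ℕ := ∑ i, if e i = k then 1 else 0

/-- one fixed line, two eigenvalues of multiplicity two -/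
def P4 (e : Fin 5 → ZMod 5) : Prop := cnt e = 4 ∧ ∃ (i : Fin 5) (s : ZMod 5), s ≠ 0 ∧ e i = 0 ∧ ∀ a, a ≠ i → e a = s ∨ e a = -s

/-- five different eigenvalues -/
def P0 (e : Fin 5 → ZMod 5) : Prop := cnt e = 0 ∧ (∀ a b, e a = e b → a = b) ∧ (∃ i, e i = 0) ∧ (∃ i, e i = 1) ∧ ∃ i, e i = 4

theorem vec5 {α : Type*} (e : Fin 5 → α) : e = ![e 0, e 1, e 2, e 3, e 4] := by
  funext i
  fin_cases i <;> rfl

set_option synthInstance.maxSize 4000 in
theorem tabE' : ∀ a b c d e : ZMod 5, mlt ![a, b, c, d, e] 1 = mlt ![a, b, c, d, e] 4 →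
    mlt ![a, b, c, d, e] 2 = mlt ![a, b, c, d, e] 3 → cnt ![a, b, c, d, e] = 20 ∨ cnt ![a, b, c, d, e] = 6 ∨
      P4 ![a, b, c, d, e] ∨ P0 ![a, b, c, d, e] := by
  unfold P4 P0
  decide +kernel

theorem tabE (e : Fin 5 → ZMod 5) (h1 : mlt e 1 = mlt e 4) (h2 : mlt e 2 = mlt e 3) :
    cnt e = 20 ∨ cnt e = 6 ∨ P4 e ∨ P0 e := by
  rw [vec5 e] at h1 h2 ⊢
  exact tabE' _ _ _ _ _ h1 h2

set_option synthInstance.maxSize 4000 in
theorem tabF' : ∀ a b c d e : ZMod 3, a + b + c + d + e = 0 → 4 ≤ cnt ![a, b, c, d, e] ∧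
    (cnt ![a, b, c, d, e] = 4 ↔ ∃ j, ∀ i, ![a, b, c, d, e] i = 0 ↔ i = j) := by
  decide +kernel

theorem tabF (f : Fin 5 → ZMod 3) (h : ∑ i, f i = 0) : 4 ≤ cnt f ∧ (cnt f = 4 ↔ ∃ j, ∀ i, f i = 0 ↔ i = j) := by
  rw [Fin.sum_univ_five] at h
  rw [vec5 f]
  exact tabF' _ _ _ _ _ h

theorem pv_add {N : ℕ} [NeZero N] {ζ : K} (hζ : IsPrimitiveRoot ζ N) (a b : ZMod N) :
    ζ ^ (a + b).val = ζ ^ a.val * ζ ^ b.val := by
  rw [← pow_add, ZMod.val_add]
  conv_rhs => rw [← Nat.mod_add_div (a.val + b.val) N, pow_add, pow_mul, hζ.pow_eq_one, one_pow, mul_one]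

theorem pv_one {N : ℕ} [NeZero N] {ζ : K} (hζ : IsPrimitiveRoot ζ N) {a : ZMod N} : ζ ^ a.val = 1 ↔ a = 0 := by
  rw [hζ.pow_eq_one_iff_dvd]
  exact ⟨fun h => (ZMod.val_eq_zero _).1 (Nat.eq_zero_of_dvd_of_lt h (ZMod.val_lt _)), fun h => by
    rw [h, ZMod.val_zero]; exact dvd_zero _⟩

theorem pv_mul {N : ℕ} [NeZero N] {ζ : K} (hζ : IsPrimitiveRoot ζ N) {a b : ZMod N} :
    ζ ^ a.val * ζ ^ b.val = 1 ↔ a + b = 0 := by rw [← pv_add hζ, pv_one hζ]

theorem pv_pow {N : ℕ} [NeZero N] {ζ : K} (hζ : IsPrimitiveRoot ζ N) (a : ZMod N) : (ζ ^ a.val) ^ N = 1 := by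
  rw [← pow_mul, mul_comm, pow_mul, hζ.pow_eq_one, one_pow]

/-! ### the module -/

/-- the diagonal matrix of roots of unity -/
def dgz {N : ℕ} (ζ : K) (e : Fin 5 → ZMod N) : Matrix (Fin 5) (Fin 5) K := diagonal fun a => ζ ^ (e a).val

/-- the data -/
structure Rep (ζ ω : K) (A W P P' : Matrix (Fin 5) (Fin 5) K) (e : Fin 5 → ZMod 5) (f : Fin 5 → ZMod 3) : Prop where
  z5 : IsPrimitiveRoot ζ 5
  z3 : IsPrimitiveRoot ω 3
  aa : A * A = 1
  ww : W * W = 1
  r1 : A * dgz ζ e * A = dgz ζ (-e) * A * dgz ζ (-e)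
  rw : A * W = dgz ζ (-e) * dgz ζ (-e) * A * dgz ζ e * dgz ζ e * A * dgz ζ (-e) * dgz ζ (-e)
  wx : W * dgz ζ e = dgz ζ (-e) * W
  pp : P * P' = 1
  pa : A * P * Aᵀ = P
  px : dgz ζ e * P * (dgz ζ e)ᵀ = P
  dg : ∃ Q Q', Q * Q' = 1 ∧ Q' * Q = 1 ∧ Q' * (A * dgz ζ e) * Q = dgz ω f
  dt : (A * dgz ζ e).det = 1

theorem dgz_mul {N : ℕ} [NeZero N] {ζ : K} (hζ : IsPrimitiveRoot ζ N) (e e' : Fin 5 → ZMod N) :
    dgz ζ e * dgz ζ e' = dgz ζ (e + e') := by
  unfold dgz
  rw [diagonal_mul_diagonal]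
  congr 1
  funext a
  exact (pv_add hζ _ _).symm

theorem dgz_zero {N : ℕ} [NeZero N] (ζ : K) : dgz ζ (0 : Fin 5 → ZMod N) = 1 := by
  unfold dgz
  rw [← diagonal_one]
  congr 1
  funext a
  rw [Pi.zero_apply, ZMod.val_zero, pow_zero]

variable {ζ ω : K} {A W P P' : Matrix (Fin 5) (Fin 5) K} {e : Fin 5 → ZMod 5} {f : Fin 5 → ZMod 3}

theorem dgz_xy (hζ : IsPrimitiveRoot ζ 5) (e : Fin 5 → ZMod 5) : dgz ζ e * dgz ζ (-e) = 1 := by
  rw [dgz_mul hζ, add_neg_cancel, dgz_zero]

theorem dgz_yx (hζ : IsPrimitiveRoot ζ 5) (e : Fin 5 → ZMod 5) : dgz ζ (-e) * dgz ζ e = 1 := by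
  rw [dgz_mul hζ, neg_add_cancel, dgz_zero]

theorem three_two : ∀ a : ZMod 5, a + a + a = -a + -a := by decide

theorem dgz_x3 (hζ : IsPrimitiveRoot ζ 5) (e : Fin 5 → ZMod 5) : dgz ζ e * dgz ζ e * dgz ζ e = dgz ζ (-e) * dgz ζ (-e) := by
  rw [dgz_mul hζ, dgz_mul hζ, dgz_mul hζ]
  congr 1
  funext a
  exact three_two _

theorem Rep.w0 (h : Rep ζ ω A W P P' e f) {a b : Fin 5} (h1 : W a b ≠ 0) : e a + e b = 0 := by
  have h2 := congrFun (congrFun h.wx a) b
  rw [dgz, dgz, mul_diagonal, diagonal_mul] at h2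
  have h3 : ζ ^ (e a).val * ζ ^ ((-e) a).val = 1 := (pv_mul h.z5).2 (add_neg_cancel _)
  rw [← pv_mul h.z5]
  apply mul_left_cancel₀ h1
  linear_combination ζ ^ (e a).val * h2 + W a b * h3

theorem Rep.p0 (h : Rep ζ ω A W P P' e f) {a b : Fin 5} (h1 : P a b ≠ 0) : e a + e b = 0 := by
  have h2 := congrFun (congrFun h.px a) b
  rw [dgz, diagonal_transpose, mul_diagonal, diagonal_mul] at h2
  rw [← pv_mul h.z5]
  apply mul_left_cancel₀ h1
  linear_combination h2

theorem neg_iff : ∀ a b k : ZMod 5, a + b = 0 → (b = k ↔ a = -k) := by decide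

theorem Rep.cases (h : Rep ζ ω A W P P' e f) : cnt e = 20 ∨ cnt e = 6 ∨ P4 e ∨ P0 e := by
  obtain ⟨σ, hσ⟩ := exists_perm h.ww
  have key : ∀ k, mlt e k = mlt e (-k) := fun k => by
    unfold mlt
    rw [← Equiv.sum_comp σ fun i => if e i = -k then 1 else 0]
    exact Finset.sum_congr rfl fun i _ => if_congr (neg_iff _ _ k (h.w0 (hσ i))) rfl rfl
  exact tabE e (key 1) (key 2)

theorem Rep.sumf (h : Rep ζ ω A W P P' e f) : ∑ i, f i = 0 := by
  obtain ⟨Q, Q', h1, -, h3⟩ := h.dg
  have h4 := congrArg Matrix.det h3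
  have h5 := congrArg Matrix.det h1
  rw [det_mul, det_one] at h5
  rw [det_mul, det_mul, h.dt, mul_one, mul_comm, h5, dgz, det_diagonal, Fin.prod_univ_five, ← pv_add h.z3, ← pv_add h.z3,
    ← pv_add h.z3, ← pv_add h.z3] at h4
  rw [Fin.sum_univ_five]
  exact (pv_one h.z3).1 h4.symm

theorem Rep.f4 (h : Rep ζ ω A W P P' e f) : 4 ≤ cnt f := (tabF f h.sumf).1

theorem geom5 {x y : K} (h : x * y = 1) (h3 : x * x * x = y * y) (h1 : x ≠ 1) : 1 + x + x * x + y * y + y = 0 := by
  have h2 : (x - 1) * (1 + x + x * x + y * y + y) = 0 := by linear_combination h3 + (y + 1) * h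
  exact (mul_eq_zero.1 h2).resolve_left (sub_ne_zero.2 h1)

theorem single_dgz {N : ℕ} [NeZero N] {e : Fin 5 → ZMod N} {i : Fin 5} (h : e i = 0) :
    dgz ζ e * single i i (1 : K) = single i i 1 ∧ single i i (1 : K) * dgz ζ e = single i i 1 := by
  constructor <;> ext a b
  · rw [dgz, diagonal_mul, single_apply]
    split_ifs with h1
    · rw [← h1.1, h, ZMod.val_zero, pow_zero, one_mul]
    · rw [mul_zero]
  · rw [dgz, mul_diagonal, single_apply]
    split_ifs with h1
    · rw [← h1.2, h, ZMod.val_zero, pow_zero, one_mul]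
    · rw [zero_mul]

theorem mul_single_mul (Q Q' : Matrix (Fin 5) (Fin 5) K) (i a b : Fin 5) :
    (Q * single i i (1 : K) * Q') a b = Q a i * Q' i b := by
  rw [mul_apply, Finset.sum_eq_single i, mul_single_apply_same, mul_one]
  · intro c _ hc
    rw [mul_single_apply_of_ne (hbj := hc), zero_mul]
  · intro h1
    exact absurd (Finset.mem_univ i) h1

/-- **the fixed line of `X` splits** -/
theorem Rep.split (h : Rep ζ ω A W P P' e f) {i : Fin 5} (hi : e i = 0) (hu : ∀ a, e a = 0 → a = i) :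
    A * single i i (1 : K) = single i i 1 ∧ single i i (1 : K) * A = single i i 1 := by
  have xy := dgz_xy h.z5 e
  have yx := dgz_yx h.z5 e
  have hE : single i i (1 : K) = 1 + dgz ζ e + dgz ζ e * dgz ζ e + dgz ζ (-e) * dgz ζ (-e) + dgz ζ (-e) := by
    ext a b
    unfold dgz
    rw [diagonal_mul_diagonal, diagonal_mul_diagonal, ← diagonal_one, diagonal_add, diagonal_add, diagonal_add, diagonal_add,
      single_apply, diagonal_apply]
    by_cases h1 : a = b
    · subst h1
      rw [if_pos rfl]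
      by_cases h2 : i = a
      · subst h2
        rw [if_pos ⟨rfl, rfl⟩, Pi.neg_apply, hi, neg_zero, ZMod.val_zero, pow_zero]
        linear_combination -2 * k2 (1 : K)
      · rw [if_neg fun h3 => h2 h3.1]
        refine (geom5 ((pv_mul h.z5).2 (add_neg_cancel _)) ?_ fun h3 => h2 (hu a ((pv_one h.z5).1 h3)).symm).symm
        rw [← pv_add h.z5, ← pv_add h.z5, ← pv_add h.z5, three_two]
    · rw [if_neg h1, if_neg fun h3 => h1 (h3.1.symm.trans h3.2)]
  have h3 := ring_inv h.aa xy yx h.r1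
  have h4 := ring_sq h.aa h.r1
  have h5 : A * single i i (1 : K) * A = 1 + dgz ζ (-e) * A * dgz ζ (-e) +
      dgz ζ (-e) * (A * (dgz ζ (-e) * dgz ζ (-e)) * A) * dgz ζ (-e) + A * (dgz ζ (-e) * dgz ζ (-e)) * A +
      dgz ζ e * A * dgz ζ e := by
    rw [hE, ← h.r1, ← h3, ← h4]
    linear_combination (norm := noncomm_ring) h.aa
  have key : ∀ a b, a ≠ i → e a + e b = 0 → A a i * A i b = 0 := by
    intro a b ha hab
    have h6 := congrFun (congrFun h5 a) b
    have hne : a ≠ b := by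
      rintro rfl
      exact ha (hu a (by revert hab; generalize e a = t; revert t; decide))
    have h7 : ζ ^ (e a).val * ζ ^ (e b).val = 1 := (pv_mul h.z5).2 hab
    have h8 : ζ ^ ((-e) a).val * ζ ^ ((-e) b).val = 1 := (pv_mul h.z5).2 (by
      rw [Pi.neg_apply, Pi.neg_apply, ← neg_add, hab, neg_zero])
    generalize A * (dgz ζ (-e) * dgz ζ (-e)) * A = T at h6
    rw [mul_single_mul, Matrix.add_apply, Matrix.add_apply, Matrix.add_apply, Matrix.add_apply, one_apply_ne hne, dgz, dgz, mul_diagonal, diagonal_mul,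
      mul_diagonal, diagonal_mul, mul_diagonal, diagonal_mul] at h6
    linear_combination h6 + (A a b + T a b) * h8 + A a b * h7 + k2 (A a b + T a b)
  have hAP : A * P = P * Aᵀ := by
    have h6 : Aᵀ * Aᵀ = 1 := by rw [← transpose_mul, h.aa, transpose_one]
    linear_combination (norm := noncomm_ring) h.pa * Aᵀ - (A * P) * h6
  have pc : ∀ a, a ≠ i → P a i = 0 := fun a ha => by
    by_contra h6
    have h7 := h.p0 h6
    rw [hi, add_zero] at h7
    exact ha (hu a h7)
  have pr : ∀ a, a ≠ i → P i a = 0 := fun a ha => by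
    by_contra h6
    have h7 := h.p0 h6
    rw [hi, zero_add] at h7
    exact ha (hu a h7)
  have pi : P i i * P' i i = 1 := by
    have h6 := congrFun (congrFun h.pp i) i
    rwa [mul_apply, Finset.sum_eq_single i (fun b _ hb => by rw [pr b hb, zero_mul]) (fun h1 => absurd (Finset.mem_univ i) h1),
      one_apply_eq] at h6
  have ac : ∀ a, a ≠ i → A a i = 0 := fun a ha => by
    have h6 := congrFun (congrFun hAP a) i
    rw [mul_apply, mul_apply, Finset.sum_eq_single i (fun b _ hb => by rw [pc b hb, mul_zero])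
      (fun h1 => absurd (Finset.mem_univ i) h1)] at h6
    have h7 : A a i * ∑ b, P a b * Aᵀ b i = 0 := by
      rw [Finset.mul_sum]
      refine Finset.sum_eq_zero fun b _ => ?_
      by_cases h8 : P a b = 0
      · rw [h8, zero_mul, mul_zero]
      · rw [transpose_apply, mul_left_comm, key a b ha (h.p0 h8), mul_zero]
    rw [← h6] at h7
    have h9 : A a i * A a i = 0 := by linear_combination P' i i * h7 - A a i * A a i * pi
    exact mul_self_eq_zero.1 h9
  have ai : A i i = 1 := by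
    have h6 := congrFun (congrFun h.aa i) i
    rw [mul_apply, Finset.sum_eq_single i (fun b _ hb => by rw [ac b hb, mul_zero]) (fun h1 => absurd (Finset.mem_univ i) h1),
      one_apply_eq] at h6
    exact sq_one h6
  have col : ∀ (M : Matrix (Fin 5) (Fin 5) K), (∀ a, a ≠ i → M a i = 0) → M * single i i (1 : K) = M i i • single i i 1 := by
    intro M hM
    ext a b
    rw [Matrix.smul_apply, smul_eq_mul, single_apply]
    by_cases hb : b = i
    · subst hb
      rw [mul_single_apply_same, mul_one]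
      by_cases ha : a = b
      · rw [ha, if_pos ⟨rfl, rfl⟩, mul_one]
      · rw [hM a ha, if_neg fun h1 => ha h1.1.symm, mul_zero]
    · rw [mul_single_apply_of_ne (hbj := hb), if_neg fun h1 => hb h1.2.symm, mul_zero]
  have e1 : A * single i i (1 : K) = single i i 1 := by rw [col A ac, ai, one_smul]
  have e2 : single i i (1 : K) * Aᵀ = single i i 1 := by
    have h6 := congrArg transpose e1
    rwa [transpose_mul, transpose_single] at h6
  have e3 : single i i (1 : K) * P = P i i • single i i 1 := by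
    have h6 := congrArg transpose (col Pᵀ fun a ha => pr a ha)
    rwa [transpose_mul, transpose_single, transpose_transpose, transpose_smul, transpose_single] at h6
  refine ⟨e1, ?_⟩
  have e4 : single i i (1 : K) * A * P = single i i (1 : K) * P := by
    rw [mul_assoc, hAP, ← mul_assoc, e3, smul_mul_assoc, e2]
  linear_combination (norm := noncomm_ring) e4 * P' - (single i i (1 : K) * A) * h.pp + single i i (1 : K) * h.pp

theorem P4.uniq (h : P4 e) : ∃ (i : Fin 5) (s : ZMod 5), s ≠ 0 ∧ e i = 0 ∧ (∀ a, e a = 0 → a = i) ∧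
    ∀ a, a ≠ i → e a = s ∨ e a = -s := by
  obtain ⟨-, i, s, h1, h2, h3⟩ := h
  refine ⟨i, s, h1, h2, fun a ha => ?_, h3⟩
  by_contra h4
  rcases h3 a h4 with h5 | h5
  · exact h1 (h5.symm.trans ha)
  · exact h1 (neg_eq_zero.1 (h5.symm.trans ha))

/-- **the first type** -/
theorem Rep.F4 (h : Rep ζ ω A W P P' e f) (h4 : P4 e) : ∃ i, e i = 0 ∧ (∀ a, e a = 0 → a = i) ∧
    A * dgz ζ e + dgz ζ (-e) * A = 1 + single i i 1 := by
  obtain ⟨i, s, h1, h2, h3, h5⟩ := h4.uniq
  refine ⟨i, h2, h3, ?_⟩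
  obtain ⟨ae, ea⟩ := h.split h2 h3
  obtain ⟨τ, hτ⟩ : ∃ τ, τ = ζ ^ s.val + ζ ^ (-s).val := ⟨_, rfl⟩
  have hτ0 : τ ≠ 0 := by
    intro h0
    have h6 : ζ ^ s.val * ζ ^ (-s).val = 1 := (pv_mul h.z5).2 (add_neg_cancel _)
    have h7 : ζ ^ s.val * ζ ^ s.val = 1 := by
      linear_combination -ζ ^ s.val * hτ + ζ ^ s.val * h0 - h6 - k2 (1 : K)
    exact h1 ((pv_one h.z5).1 (sq_one h7))
  have hD : dgz ζ e + dgz ζ (-e) = τ • (1 + single i i (1 : K)) := by
    ext a b
    unfold dgz
    rw [diagonal_add, Matrix.smul_apply, Matrix.add_apply, one_apply, single_apply, diagonal_apply, smul_eq_mul]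
    by_cases hab : a = b
    · subst hab
      rw [if_pos rfl, if_pos rfl]
      by_cases ha : i = a
      · subst ha
        rw [if_pos ⟨rfl, rfl⟩, Pi.neg_apply, h2, neg_zero, k2, k2, mul_zero]
      · rw [if_neg fun h6 => ha h6.1, add_zero, mul_one, hτ, Pi.neg_apply]
        rcases h5 a (Ne.symm ha) with h6 | h6
        · rw [h6]
        · rw [h6, neg_neg, add_comm]
    · rw [if_neg hab, if_neg hab, if_neg fun h6 => hab (h6.1.symm.trans h6.2), add_zero, mul_zero]
  have xy := dgz_xy h.z5 e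
  have yx := dgz_yx h.z5 e
  have h6 := ring_inv h.aa xy yx h.r1
  obtain ⟨xe, ex⟩ := single_dgz (ζ := ζ) h2
  obtain ⟨ye, ey⟩ := single_dgz (ζ := ζ) (e := -e) (i := i) (by rw [Pi.neg_apply, h2, neg_zero])
  have r1 := h.r1
  have aa := h.aa
  generalize dgz ζ e = X at *
  generalize dgz ζ (-e) = Y at *
  generalize single i i (1 : K) = E at *
  have h7 : A * (X + Y) * A = (X + Y) * (A * X) + Y * A * (X + Y) := by
    linear_combination (norm := noncomm_ring) r1 + h6 - m2 (Y * A * X)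
  rw [hD, mul_smul_comm, smul_mul_assoc, smul_mul_assoc, mul_smul_comm, ← smul_add] at h7
  have h8 := smul_right_injective _ hτ0 h7
  linear_combination (norm := noncomm_ring) -h8 + aa + ae * A + ea - ea * X - ex - Y * ae - ye - m2 E

/-- the projector of `B` -/
theorem Rep.proj (h : Rep ζ ω A W P P' e f) : ∃ Q Q', Q * Q' = 1 ∧ Q' * Q = 1 ∧
    Q' * (1 + (A * dgz ζ e + dgz ζ (-e) * A)) * Q = diagonal fun a => if f a = 0 then 1 else 0 := by
  obtain ⟨Q, Q', h1, h2, h3⟩ := h.dg
  refine ⟨Q, Q', h1, h2, ?_⟩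
  have h4 := ring_b2 h.aa (dgz_yx h.z5 e) h.r1
  have h5 : Q' * (1 + (A * dgz ζ e + dgz ζ (-e) * A)) * Q = 1 + dgz ω f + dgz ω f * dgz ω f := by
    rw [← h3, ← h4]
    generalize A * dgz ζ e = B
    linear_combination (norm := noncomm_ring) h2 - Q' * B * h1 * (B * Q)
  rw [h5]
  unfold dgz
  rw [diagonal_mul_diagonal, ← diagonal_one, diagonal_add, diagonal_add]
  congr 1
  funext a
  split_ifs with h6
  · rw [h6, ZMod.val_zero, pow_zero]
    linear_combination k2 (1 : K)
  · have h7 := pv_pow h.z3 (f a)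
    have h8 : (ω ^ (f a).val - 1) * (1 + ω ^ (f a).val + ω ^ (f a).val * ω ^ (f a).val) = 0 := by linear_combination h7
    exact (mul_eq_zero.1 h8).resolve_left fun h9 => h6 ((pv_one h.z3).1 (sub_eq_zero.1 h9))

/-- **the type of `B` in the first case** -/
theorem Rep.b4 (h : Rep ζ ω A W P P' e f) (h4 : P4 e) : cnt f = 4 := by
  obtain ⟨i, -, -, h1⟩ := h.F4 h4
  obtain ⟨Q, Q', q1, q2, h2⟩ := h.proj
  rw [h1, ← add_assoc, m2, zero_add] at h2
  have h3 : ∀ a b, Q' a i * Q i b = diagonal (fun a => if f a = 0 then (1 : K) else 0) a b := fun a b => by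
    rw [← h2, mul_single_mul]
  have h5 : ∃ j, f j = 0 := by
    by_contra h6
    push Not at h6
    have h7 := congrFun (congrFun q1 i) i
    rw [mul_apply, one_apply_eq, Finset.sum_eq_zero fun a _ => by rw [mul_comm, h3, diagonal_apply_eq, if_neg (h6 a)]] at h7
    exact zero_ne_one h7
  obtain ⟨j, hj⟩ := h5
  refine (tabF f h.sumf).2.2 ⟨j, fun a => ⟨fun ha => ?_, fun ha => ha ▸ hj⟩⟩
  by_contra h6
  have h7 := h3 a a
  have h8 := h3 j j
  have h9 := h3 a j
  rw [diagonal_apply_eq, if_pos ha] at h7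
  rw [diagonal_apply_eq, if_pos hj] at h8
  rw [diagonal_apply_ne _ h6] at h9
  exact one_ne_zero (α := K) (by linear_combination -h7 - Q' a i * Q i a * h8 + Q i a * Q' j i * h9)

/-- **the second type** -/
theorem Rep.F0 (h : Rep ζ ω A W P P' e f) (h0 : P0 e) (hf : cnt f = 4) : ∃ i, e i = 0 ∧ (∀ a, e a = 0 → a = i) ∧
    A * dgz ζ e + dgz ζ (-e) * A = 1 + single i i 1 := by
  obtain ⟨-, h1, ⟨i, hi⟩, -⟩ := h0
  have hu : ∀ a, e a = 0 → a = i := fun a ha => h1 a i (ha.trans hi.symm)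
  refine ⟨i, hi, hu, ?_⟩
  obtain ⟨ae, ea⟩ := h.split hi hu
  obtain ⟨xe, ex⟩ := single_dgz (ζ := ζ) hi
  obtain ⟨ye, ey⟩ := single_dgz (ζ := ζ) (e := -e) (i := i) (by rw [Pi.neg_apply, hi, neg_zero])
  obtain ⟨j, hj⟩ := (tabF f h.sumf).2.1 hf
  obtain ⟨Q, Q', q1, q2, h2⟩ := h.proj
  have h3 : (diagonal fun a => if f a = 0 then (1 : K) else 0) = single j j 1 := by
    ext a b
    rw [diagonal_apply, single_apply]
    by_cases hab : a = b
    · subst hab
      rw [if_pos rfl]
      exact if_congr ((hj a).trans ⟨fun h4 => ⟨h4.symm, h4.symm⟩, fun h4 => h4.1.symm⟩) rfl rfl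
    · rw [if_neg hab, if_neg fun h4 => hab (h4.1.symm.trans h4.2)]
  rw [h3] at h2
  have fe : (1 + (A * dgz ζ e + dgz ζ (-e) * A)) * single i i (1 : K) = single i i 1 := by
    linear_combination (norm := noncomm_ring) A * xe + ae + dgz ζ (-e) * ae + ye + m2 (single i i (1 : K))
  have ef : single i i (1 : K) * (1 + (A * dgz ζ e + dgz ζ (-e) * A)) = single i i 1 := by
    linear_combination (norm := noncomm_ring) ea * dgz ζ e + ex + ey * A + ea + m2 (single i i (1 : K))
  generalize A * dgz ζ e + dgz ζ (-e) * A = G at *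
  have h4 : 1 + G = Q * single j j (1 : K) * Q' := by
    rw [← h2]
    linear_combination (norm := noncomm_ring) -q1 * (1 + G) * (Q * Q') - (1 + G) * q1
  have h5 : 1 + G = single i i 1 := by
    have c1 : ∀ a, Q a j * Q' j i = single i i (1 : K) a i := fun a => by
      rw [← mul_single_mul, ← h4, ← fe, mul_single_apply_same, mul_one]
    have c2 : ∀ b, Q i j * Q' j b = single i i (1 : K) i b := fun b => by
      rw [← mul_single_mul, ← h4, ← ef, single_mul_apply_same, one_mul]
    have c3 := c1 i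
    rw [single_apply_same] at c3
    ext a b
    rw [h4, mul_single_mul]
    have c4 : single i i (1 : K) a b = single i i (1 : K) a i * single i i (1 : K) i b := by
      rw [single_apply, single_apply, single_apply]
      by_cases ha : i = a <;> by_cases hb : i = b <;> simp [ha, hb]
    rw [c4, ← c1, ← c2]
    linear_combination -(Q a j * Q' j b) * c3
  linear_combination (norm := noncomm_ring) h5 - m2 (1 : Matrix (Fin 5) (Fin 5) K)

/-- **a matrix which commutes with `X` and `W` commutes with `A`** -/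
theorem Rep.comm (h : Rep ζ ω A W P P' e f) (ht : cnt e = 4 ∨ (cnt e = 0 ∧ cnt f = 4)) {M : Matrix (Fin 5) (Fin 5) K}
    (h1 : M * dgz ζ e = dgz ζ e * M) (h2 : M * W = W * M) : M * A = A * M := by
  have h3 : ∃ i, e i = 0 ∧ (∀ a, e a = 0 → a = i) ∧ A * dgz ζ e + dgz ζ (-e) * A = 1 + single i i 1 := by
    rcases h.cases with h4 | h4 | h4 | h4
    · omega
    · omega
    · exact h.F4 h4
    · exact h.F0 h4 (by have := h4.1; omega)
  obtain ⟨i, hi, hu, hF⟩ := h3
  obtain ⟨ae, ea⟩ := h.split hi hu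
  obtain ⟨xe, ex⟩ := single_dgz (ζ := ζ) hi
  have xy := dgz_xy h.z5 e
  have yx := dgz_yx h.z5 e
  have h4 := ringA m2 h.aa xy yx (dgz_x3 h.z5 e) h.r1 h.rw hF xe ex ae ea
  have cx : Commute M (dgz ζ e) := h1
  have cy : Commute M (dgz ζ (-e)) := by
    show M * dgz ζ (-e) = dgz ζ (-e) * M
    linear_combination (norm := noncomm_ring) -yx * (M * dgz ζ (-e)) - dgz ζ (-e) * h1 * dgz ζ (-e) + (dgz ζ (-e) * M) * xy
  have cw : Commute M W := h2
  have h5 := (((Commute.one_right M).add_right (cx.mul_right cx)).add_right (cy.mul_right cy)).mul_right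
    ((cw.add_right cx).add_right cy)
  rw [← h4] at h5
  exact h5

/-- **five different eigenvalues** -/
theorem Rep.tor (h : Rep ζ ω A W P P' e f) (h0 : cnt e = 0) :
    (∀ H : Matrix (Fin 5) (Fin 5) K, H * dgz ζ e = dgz ζ e * H → P * Hᵀ * P' = W * H * W) ∧
      ∃ i j k : Fin 5, i ≠ k ∧ j ≠ k ∧ i ≠ j ∧
        W * (single i i (1 : K) - single k k 1) * W = single j j 1 - single k k 1 := by
  have h1 : P0 e := by
    rcases h.cases with h4 | h4 | h4 | h4
    · omega
    · omega
    · have := h4.1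
      omega
    · exact h4
  obtain ⟨-, h1, ⟨k, hk⟩, ⟨i, hi⟩, j, hj⟩ := h1
  obtain ⟨σ, hσ⟩ := exists_perm h.ww
  have mono : ∀ (M : Matrix (Fin 5) (Fin 5) K), (∀ a b, M a b ≠ 0 → e a + e b = 0) → ∀ d : Fin 5 → K,
      M * diagonal d = diagonal (fun a => d (σ.symm a)) * M := by
    intro M hM d
    ext a b
    rw [mul_diagonal, diagonal_mul]
    by_cases h2 : M a b = 0
    · rw [h2, zero_mul, mul_zero]
    · have h3 : a = σ b := h1 _ _ (add_right_cancel ((hM a b h2).trans (h.w0 (hσ b)).symm))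
      rw [h3, Equiv.symm_apply_apply, mul_comm]
  refine ⟨fun H hH => ?_, i, j, k, ?_, ?_, ?_, ?_⟩
  · have h2 : H = diagonal fun a => H a a := by
      ext a b
      rw [diagonal_apply]
      split_ifs with hab
      · rw [hab]
      · by_contra h3
        have h4 := congrFun (congrFun hH a) b
        rw [dgz, mul_diagonal, diagonal_mul, mul_comm] at h4
        have h5 := mul_right_cancel₀ h3 h4
        have h6 : ζ ^ (e b).val * ζ ^ (-e b).val = 1 := (pv_mul h.z5).2 (add_neg_cancel _)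
        rw [h5, pv_mul h.z5] at h6
        exact hab (h1 _ _ (by linear_combination h6))
    rw [h2, diagonal_transpose, mono P (fun a b => h.p0), mono W (fun a b => h.w0), mul_assoc, mul_assoc, h.pp, h.ww]
  · rintro rfl
    rw [hk] at hi
    exact absurd hi (by decide)
  · rintro rfl
    rw [hk] at hj
    exact absurd hj (by decide)
  · rintro rfl
    rw [hi] at hj
    exact absurd hj (by decide)
  · have sd : ∀ a : Fin 5, single a a (1 : K) = diagonal fun b => if a = b then 1 else 0 := fun a => by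
      ext b c
      rw [single_apply, diagonal_apply]
      by_cases h2 : b = c
      · rw [if_pos h2, ← h2]
        exact if_congr (and_self_iff) rfl rfl
      · rw [if_neg h2, if_neg fun h3 => h2 (h3.1.symm.trans h3.2)]
    have key : ∀ a b, e a + e b = 0 → W * single a a (1 : K) * W = single b b 1 := fun a b hab => by
      have h3 : b = σ a := h1 _ _ (add_right_cancel (((add_comm _ _).trans hab).trans (h.w0 (hσ a)).symm))
      rw [sd a, mono W (fun a b => h.w0), mul_assoc, h.ww, mul_one, sd b, h3]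
      congr 1
      funext c
      exact if_congr (by rw [Equiv.eq_symm_apply]) rfl rfl
    rw [mul_sub, sub_mul, key i j (by rw [hi, hj]; rfl), key k k (by rw [hk, add_zero])]

/-- a matrix which commutes with the matrices of trace zero is a scalar -/
theorem scal_of_comm {M : Matrix (Fin 5) (Fin 5) K} (h : ∀ i j, i ≠ j → M * single i j (1 : K) = single i j (1 : K) * M) :
    M = M 0 0 • (1 : Matrix (Fin 5) (Fin 5) K) := by
  have h1 : ∀ a i, a ≠ i → M a i = 0 := fun a i ha => by
    obtain ⟨j, hj⟩ := exists_ne i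
    have h2 := congrFun (congrFun (h i j hj.symm) a) j
    rwa [mul_single_apply_same, mul_one, single_mul_apply_of_ne (h := ha)] at h2
  have h2 : ∀ i, M i i = M 0 0 := fun i => by
    by_cases hi : i = 0
    · rw [hi]
    · have h2 := congrFun (congrFun (h i 0 hi) i) 0
      rwa [mul_single_apply_same, mul_one, single_mul_apply_same, one_mul] at h2
  ext a b
  rw [Matrix.smul_apply, one_apply, smul_eq_mul]
  split_ifs with hab
  · rw [hab, h2, mul_one]
  · rw [h1 a b hab, mul_zero]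

end Cfsg.Agent.E82.F5
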