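import Cfsg.Agent.E82.F5.V5
import Cfsg.Agent.H952.F4.Scott

/-!
# S3369: tools for the row `Sp₄(4)` (helper40)

* `pr5` : the projection to the fixed space of an element of order five; `c2_le` : `dim V^x ≤ dim V^y` for `A₅`;
* `scottA` : Scott's lemma on the fixed space of `x'`; `ty15` : the types of commuting elements of orders three and five.
-/

set_option autoImplicit false
set_option linter.unusedSectionVars false
set_option maxRecDepth 100000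
set_option maxHeartbeats 400000

namespace Cfsg.Agent.E82.F5

open Cfsg Cfsg.Lie
open Cfsg.Agent.H939.L64 (KK E2 LK em aK rE rE_apply rE_mul rE_one rE_inv_self rE_self_inv)
open Cfsg.Agent.H942.L16 (BF BF_aK BF_symm BF_eq_zero ladd_self)
open Cfsg.Agent.H952.F4 (ev)
open Cfsg.Agent.H952.F4.Scott (scott_form rank_add_ev)
open Cfsg.Agent.Lib.VonDyck (a5 b5 a5_sq b5_pow closure_a5_b5)
open Cfsg.Agent.E82.Fr (IsLog exists_log sq_inj)

attribute [local instance] Cfsg.Agent.H413.L64.charKK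

/-! ### the projection -/

theorem BF_rE (g : E2) (u v : LK) : BF (rE g u) (rE g v) = BF u v := BF_aK _ u v

theorem rE_comm {g x : E2} (h : Commute g x) (v : LK) : rE g (rE x v) = rE x (rE g v) := by rw [← rE_mul, h.eq, rE_mul]

/-- the projection to the fixed space of an element of order five -/
noncomputable def pr5 (x : E2) (v : LK) : LK :=
  v + rE x v + rE x (rE x v) + rE x (rE x (rE x v)) + rE x (rE x (rE x (rE x v)))

theorem pow5 {G : Type*} [Monoid G] {x : G} (h : x ^ 5 = 1) : x * (x * (x * (x * x))) = 1 := by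
  rw [← h, pow_succ', pow_succ', pow_succ', pow_two]

theorem pr5_rE {x : E2} (hx : x ^ 5 = 1) (v : LK) : pr5 x (rE x v) = pr5 x v := by
  have h : rE x (rE x (rE x (rE x (rE x v)))) = v := by
    rw [← rE_mul, ← rE_mul, ← rE_mul, ← rE_mul, mul_assoc, mul_assoc, mul_assoc, pow5 hx, rE_one]
  unfold pr5
  rw [h]
  abel

theorem pr5_comm {g x : E2} (h : Commute g x) (v : LK) : rE g (pr5 x v) = pr5 x (rE g v) := by
  unfold pr5
  simp only [map_add, rE_comm h]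

theorem pr5_mem {x : E2} (hx : x ^ 5 = 1) (v : LK) : pr5 x v ∈ Fx x :=
  mem_eig1.2 (by rw [pr5_comm (Commute.refl x), pr5_rE hx])

theorem pr5_of_fix {x : E2} {v : LK} (h : rE x v = v) : pr5 x v = v := by
  unfold pr5
  rw [h, h, h, h, ladd_self, zero_add, ladd_self, zero_add]

theorem pr5_add (x : E2) (u v : LK) : pr5 x (u + v) = pr5 x u + pr5 x v := by
  unfold pr5
  simp only [map_add]
  abel

theorem BF_pr5 {x : E2} (c : LK) {v : LK} (h : rE x v = v) : BF (pr5 x c) v = BF c v := by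
  have h1 : ∀ u, BF (rE x u) v = BF u v := fun u => by
    conv_lhs => rw [← h]
    exact BF_rE x u v
  unfold pr5
  simp only [map_add, LinearMap.add_apply, h1]
  linear_combination 2 * k2 (BF c v)

theorem nondeg1 {x : E2} (hx : x ^ 5 = 1) {u : LK} (hu : u ∈ Fx x) (h : ∀ v ∈ Fx x, BF u v = 0) : u = 0 :=
  BF_eq_zero fun v => by rw [BF_symm, ← BF_pr5 v (mem_eig1.1 hu), BF_symm, h _ (pr5_mem hx v)]

theorem nondeg2 {x x' : E2} (hx : x ^ 5 = 1) (hx' : x' ^ 5 = 1) (hc : Commute x x') {u : LK} (hu : u ∈ Fx x ⊓ Fx x')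
    (h : ∀ v ∈ Fx x ⊓ Fx x', BF u v = 0) : u = 0 :=
  nondeg1 hx' hu.2 fun v hv => by
    rw [BF_symm, ← BF_pr5 v (mem_eig1.1 hu.1), BF_symm]
    exact h _ ⟨pr5_mem hx v, mem_eig1.2 (by rw [pr5_comm hc.symm, mem_eig1.1 hv])⟩

/-! ### `A₅` on the fixed space of `x'` -/

theorem rel_bb : b5 * b5 = x5⁻¹ * a5 := by decide +kernel

theorem rel_bbb : b5 * (b5 * b5) = 1 := by decide +kernel

/-- **`dim V^x ≤ dim V^y`** -/
theorem c2_le (F : A5 →* E2) {x' : E2} (hc : ∀ g, Commute (F g) x') : c2 (F x5) x' ≤ c2 (F b5) x' := by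
  have hx : F x5 ^ 5 = 1 := map_pow_one F x5_pow
  let T : LK →ₗ[KK] LK := LinearMap.id + rE (F b5) + rE (F (b5 * b5))
  have hT : ∀ v, T v = v + rE (F b5) v + rE (F (b5 * b5)) v := fun _ => rfl
  have hm : ∀ v ∈ Fx (F x5) ⊓ Fx x', T v ∈ Fx (F b5) ⊓ Fx x' := fun v hv => by
    refine ⟨mem_eig1.2 ?_, mem_eig1.2 ?_⟩
    · rw [hT, map_add, map_add, ← rE_mul, ← rE_mul, ← map_mul, ← map_mul, rel_bbb, map_one, rE_one]
      abel
    · rw [hT, map_add, map_add, rE_comm (hc _).symm, rE_comm (hc _).symm, mem_eig1.1 hv.2]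
  refine LinearMap.finrank_le_finrank_of_injective (f := T.restrict hm) ((injective_iff_map_eq_zero _).2 fun v hv => ?_)
  have h0 : T v = 0 := congrArg Subtype.val hv
  have h1 : rE (F x5) v = v := mem_eig1.1 v.2.1
  have h2 : rE (F b5) v = rE (F a5) v := by rw [← rel_b, map_mul, rE_mul, h1]
  have h3 : pr5 (F x5) (rE (F (b5 * b5)) v) = pr5 (F x5) (rE (F a5) v) := by
    rw [← pr5_rE hx, rel_bb, map_mul, rE_mul, map_inv, rE_self_inv]
  have h4 := congrArg (pr5 (F x5)) h0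
  rw [hT, pr5_add, pr5_add, h2, h3, add_assoc, ladd_self, add_zero, pr5_of_fix h1, pr5_of_fix (map_zero _)] at h4
  exact Subtype.ext h4

/-- **Scott's lemma** -/
theorem scottA (F : A5 →* E2) {x' : E2} (hx' : x' ^ 5 = 1) (hc : ∀ g, Commute (F g) x') :
    ∃ D : Submodule KK LK, (∀ v ∈ D, v ∈ Fx x' ∧ ∀ g, rE (F g) v = v) ∧
      2 * (c2 (F b5) x' + c2 (F x5) x') ≤ cf x' + 4 * Module.finrank KK ↥D := by
  have hst : ∀ g, ∀ v ∈ Fx x', rE (F g) v ∈ Fx x' := fun g v hv =>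
    mem_eig1.2 (by rw [rE_comm (hc g).symm, mem_eig1.1 hv])
  let ρ : Representation KK A5 ↥(Fx x') :=
    { toFun := fun g => (rE (F g)).restrict (hst g)
      map_one' := LinearMap.ext fun v => Subtype.ext (by
        show rE (F 1) v = v
        rw [map_one, rE_one])
      map_mul' := fun a b => LinearMap.ext fun v => Subtype.ext (by
        show rE (F (a * b)) v = rE (F a) (rE (F b) v)
        rw [map_mul, rE_mul]) }
  have hρ : ∀ g (v : ↥(Fx x')), ρ g v = v ↔ rE (F g) v = v := fun g v => Subtype.ext_iff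
  have hev : ∀ g, ev (ρ g) 1 = c2 (F g) x' := fun g => by
    have h1 : (Module.End.eigenspace (ρ g) 1).map (Fx x').subtype = Fx (F g) ⊓ Fx x' := by
      ext v
      rw [Submodule.mem_map]
      constructor
      · rintro ⟨w, hw, rfl⟩
        rw [Module.End.mem_eigenspace_iff, one_smul, hρ] at hw
        exact ⟨mem_eig1.2 hw, w.2⟩
      · intro hv
        exact ⟨⟨v, hv.2⟩, by rw [Module.End.mem_eigenspace_iff, one_smul, hρ]; exact mem_eig1.1 hv.1, rfl⟩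
    unfold ev c2
    rw [← h1, Submodule.finrank_map_subtype_eq]
  have h1 := scott_form ρ closure_a5_b5 (BF.compl₁₂ (Fx x').subtype (Fx x').subtype)
    (fun v hv => Subtype.ext (nondeg1 hx' v.2 fun w hw => hv ⟨w, hw⟩)) (fun g v w => BF_rE (F g) v w)
  have h2 := rank_add_ev (ρ a5)
  have h3 : LinearMap.range (ρ a5 - 1) ≤ Module.End.eigenspace (ρ a5) 1 := by
    rintro _ ⟨v, rfl⟩
    rw [Module.End.mem_eigenspace_iff, one_smul, hρ]
    show rE (F a5) (rE (F a5) v - v) = rE (F a5) v - v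
    rw [map_sub, ← rE_mul, ← map_mul, rel_aa, map_one, rE_one]
    linear_combination (exp := 1) ladd_self (v : LK) - ladd_self (rE (F a5) v)
  have h4 : Module.finrank KK ↥(LinearMap.range (ρ a5 - 1)) ≤ ev (ρ a5) 1 := Submodule.finrank_mono h3
  have h5 : Module.finrank KK ↥(Fx x') = cf x' := rfl
  refine ⟨ρ.invariants.map (Fx x').subtype, ?_, ?_⟩
  · rintro _ ⟨w, hw, rfl⟩
    exact ⟨w.2, fun g => (hρ g w).1 (hw g)⟩
  · rw [Submodule.finrank_map_subtype_eq]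
    rw [hev b5, hev (a5 * b5)] at h1
    have h6 : c2 (F (a5 * b5)) x' = c2 (F x5) x' := rfl
    omega

/-- the types of commuting elements of orders three and five -/
theorem ty15 {y x : E2} (hy : y ^ 3 = 1) (hx : x ^ 5 = 1) (hc : Commute y x) (y1 : y ≠ 1) (x1 : x ≠ 1) :
    (c2 y x, cf x, cf y) ∈ L15 := by
  obtain ⟨h1, h2, h3, h4⟩ := c2_cop hy hx hc
  have h5 := fd15 h2 (by
    rw [h3]
    intro h6
    have h7 := pow_back hx (k := 3) (by norm_num)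
    rw [h6, one_pow] at h7
    exact x1 h7.symm) (by rw [h4]; exact inv_ne_one.2 y1)
  rwa [h3, h4, fd_inv, cf_pow hx (by norm_num), ← h1] at h5

/-! ### the group -/

section Grp

variable {S : Type} [Group S] {φ : Fin 4 → A5 →* S}

theorem gen_a5 : x5 ∈ Subgroup.normalClosure {b5} := by
  have h1 : (Subgroup.normalClosure {b5} : Subgroup A5) = ⊤ :=
    (IsSimpleGroup.eq_bot_or_eq_top_of_normal _ inferInstance).resolve_left fun h2 => Cfsg.Agent.Lib.VonDyck.b5_ne (by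
      have h3 : b5 ∈ (Subgroup.normalClosure {b5} : Subgroup A5) := Subgroup.subset_normalClosure rfl
      rwa [h2, Subgroup.mem_bot] at h3)
  rw [h1]
  trivial

theorem b_ne {G : Type*} [Group G] {F : A5 →* G} (h : F x5 ≠ 1) : F b5 ≠ 1 := fun h1 =>
  h ((Subgroup.normalClosure_le_normal (N := F.ker) (by rintro _ rfl; exact h1)) gen_a5)

theorem inv_w {G : Type*} [Group G] (F : A5 →* G) : F w5 * F x5 * (F w5)⁻¹ = (F x5)⁻¹ := by
  rw [← map_inv, ← map_mul, ← map_mul, w5_x5, map_inv]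

theorem D44.k5 (d : D44 φ) : ∃ k : ℕ, ¬ 5 ∣ k ∧ φ 2 x5 = (φ 0 x5 * φ 1 x5) ^ k ∧ φ 3 x5 = (φ 0 x5 * (φ 1 x5)⁻¹) ^ k := by
  obtain ⟨k, h1, h2⟩ := d.pts
  exact ⟨k, by rcases h1 with rfl | rfl <;> norm_num, h2⟩

theorem D44.conj23 (d : D44 φ) : φ 0 w5 * φ 2 x5 * (φ 0 w5)⁻¹ = (φ 3 x5)⁻¹ := by
  obtain ⟨k, -, h1, h2⟩ := d.k5
  have h3 : φ 0 w5 * (φ 0 x5 * φ 1 x5) * (φ 0 w5)⁻¹ = (φ 0 x5 * (φ 1 x5)⁻¹)⁻¹ := by
    calc φ 0 w5 * (φ 0 x5 * φ 1 x5) * (φ 0 w5)⁻¹ = φ 0 w5 * φ 0 x5 * (φ 0 w5)⁻¹ * (φ 0 w5 * φ 1 x5 * (φ 0 w5)⁻¹) := by group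
      _ = (φ 0 x5)⁻¹ * φ 1 x5 := by rw [inv_w, (d.c01 w5 x5).eq, mul_inv_cancel_right]
      _ = _ := by rw [(d.c01 x5 x5).inv_left.eq, mul_inv_rev, inv_inv]
  rw [h1, h2, ← conj_pow, h3, inv_pow]

/-- the third pair -/
theorem third {G : Type*} [Group G] {p q w : G} (hq : q ^ 5 = 1) (h1 : Commute p w) (h2 : w * q * w⁻¹ = q⁻¹) (h3 : q ≠ 1) :
    w * (p * q ^ 2) * w⁻¹ = p * q ^ 3 ∧ p * q ^ 2 ≠ 1 ∧ q ^ 4 = q⁻¹ := by
  have h4 : q ^ 4 = q⁻¹ := by rw [eq_inv_iff_mul_eq_one, ← pow_succ, hq]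
  have h5 : w * (p * q ^ 2) * w⁻¹ = p * q ^ 3 := by
    calc w * (p * q ^ 2) * w⁻¹ = w * p * w⁻¹ * (w * q * w⁻¹) ^ 2 := by rw [conj_pow]; group
      _ = p * (q ^ 3 * q ^ 5) := by rw [← h1.eq, mul_inv_cancel_right, h2, ← h4, ← pow_mul, ← pow_add]
      _ = _ := by rw [hq, mul_one]
  refine ⟨h5, fun h6 => h3 ?_, h4⟩
  rw [h6, mul_one, mul_inv_cancel, pow_succ, ← mul_assoc, h6, one_mul] at h5
  exact h5.symm

variable {f : S →* E2} {H : Subgroup E2}

theorem cf_isConj {a b : S} (h : IsConj a b) (f : S →* E2) : cf (f a) = cf (f b) := by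
  obtain ⟨c, rfl⟩ := isConj_iff.1 h
  rw [map_mul, map_mul, map_inv, fd_conj]

theorem D44.fx_le (d : D44 φ) (f : S →* E2) : Fx (f (φ 0 x5)) ⊓ Fx (f (φ 1 x5)) ≤ Fx (f (φ 2 x5)) ⊓ Fx (f (φ 3 x5)) := by
  obtain ⟨k, -, h1, h2⟩ := d.k5
  intro v hv
  have h3 : φ 0 x5 ∈ (stabV v).comap f := mem_Fx'.1 hv.1
  have h4 : φ 1 x5 ∈ (stabV v).comap f := mem_Fx'.1 hv.2
  have h5 : φ 2 x5 ∈ (stabV v).comap f := by rw [h1]; exact pow_mem (mul_mem h3 h4) k
  have h6 : φ 3 x5 ∈ (stabV v).comap f := by rw [h2]; exact pow_mem (mul_mem h3 (inv_mem h4)) k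
  exact ⟨mem_Fx'.2 h5, mem_Fx'.2 h6⟩

theorem fx_eq (d : D44 φ) (d' : D44 (swp φ)) (f : S →* E2) :
    Fx (f (φ 0 x5)) ⊓ Fx (f (φ 1 x5)) = Fx (f (φ 2 x5)) ⊓ Fx (f (φ 3 x5)) := le_antisymm (d.fx_le f) (d'.fx_le f)

theorem c2_eq23 (d : D44 φ) (d' : D44 (swp φ)) (f : S →* E2) :
    c2 (f (φ 2 x5)) (f (φ 3 x5)) = c2 (f (φ 0 x5)) (f (φ 1 x5)) := by
  unfold c2
  rw [fx_eq d d']

theorem D44.cf23 (d : D44 φ) (f : S →* E2) : cf (f (φ 3 x5)) = cf (f (φ 2 x5)) := by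
  rw [← fd_inv, ← map_inv, ← d.conj23, map_mul, map_mul, map_inv, fd_conj]

theorem x_pow (f : S →* E2) (i : Fin 4) : f (φ i x5) ^ 5 = 1 := map_pow_one f (map_pow_one _ x5_pow)

theorem y_pow (f : S →* E2) (i : Fin 4) : f (φ i b5) ^ 3 = 1 := map_pow_one f (map_pow_one _ b5_pow)

theorem D44.vh (d : D44 φ) (f : S →* E2) (h : cf (f (φ 1 x5)) = 48) : VH (f.comp (φ 0)) (f (φ 1 x5)) (f (φ 1 w5)) :=
  ⟨x_pow f 1, h, fun g => (d.c01 g x5).map f, fun g => (d.c01 g w5).map f, inv_w (f.comp (φ 1)),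
    by rw [← map_mul, ← map_mul, w5_sq, map_one, map_one]⟩

theorem D44.par (d : D44 φ) (f : S →* E2) : qe (cf (f (φ 2 b5))) = 2 * qe (cf (f (φ 0 b5))) := by
  have h := E82.par (y_pow (φ := φ) f 0) (y_pow (φ := φ) f 1) ((d.c01 b5 b5).map f)
  rw [← map_inv, ← map_mul, ← map_mul, cf_isConj d.ym, cf_isConj d.yd, ← cf_isConj d.y01] at h
  revert h
  generalize qe (cf (f (φ 2 b5))) = a
  generalize qe (cf (f (φ 0 b5))) = b
  revert a b
  decide

end Grp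

end Cfsg.Agent.E82.F5
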