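import Cfsg.Agent.E82.F5.Iface
import Cfsg.Agent.E82.Fr.A8
import Cfsg.Agent.E82.Soc.Co

/-!
# S3369: torus elements, fixed spaces, commuting elements of order five (helper40)

* `exists_valN`, `one_pow'`, `mem_Fx`, `cf_eq`, `c2_eq` : the fixed spaces in a frame;
* `wN l` : the action of a word on the values; `align` : moving to a given frame;
* `toral5` : two commuting elements of order five; `toral15` : commuting elements of orders three and five;
* `dim5` : the sum over the six points; `c2_cop`.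
-/

set_option autoImplicit false
set_option linter.unusedSectionVars false
set_option maxRecDepth 100000
set_option maxHeartbeats 400000

namespace Cfsg.Agent.E82.F5

open CoxeterSystem Cfsg Cfsg.Lie Cfsg.Lie.ChevalleyDatum
open Cfsg.Agent.ChevalleyStructure Cfsg.Agent.ChevalleyStructure.Elts Cfsg.Agent.ChevalleyStructure.CoxeterGeom
  Cfsg.Agent.ChevalleyStructure.CoxeterGeomTypes Cfsg.Agent.ChevalleyStructure.NPerm
open Cfsg.Agent.Tits.Roots Cfsg.Agent.Tits.Core Cfsg.Agent.Nodes Cfsg.Agent.Nodes.Reps Cfsg.Agent.Nodes.BNOf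
  Cfsg.Agent.Nodes.RGDChev Cfsg.Agent.Nodes.Bruhat Cfsg.Agent.Nodes.SubComb Cfsg.Agent.Nodes.Coroot
open Cfsg.Agent.KFacts.RgdField Cfsg.Agent.KFacts.RgdChevCoord Cfsg.Agent.BpExc.TorCent Cfsg.Agent.BpExc.TorChev
open Cfsg.Agent.H129.TorusChar (cX cX_pow cX_one cX_inj isMC_cX cX_root cX_rp cX_mul)
open Cfsg.Agent.H897.T5Frame (bc rc bf_eq)
open Cfsg.Agent.H897.T5UntwRow (A8)
open Cfsg.Agent.BpExc.RowsUntw (e8T)
open Cfsg.Agent.BpExc.FamInst Cfsg.Agent.BpExc.FamUntw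
open Cfsg.Agent.H939.L64 (KK E2 LK em aK rE rE_apply rE_mul rE_one rE_inv_self rE_self_inv TorZ)
open Cfsg.Agent.H413.L64 (charKK locKK nsysKK pow_inj_val pow_val)
open Cfsg.Agent.H413.L16 (cs8 act Good exists_good hA8 hFrm8 finW8 nr lin lin_apply)
open Cfsg.Agent.H876.L64 (aK_mul aK_one aK_inv aK_inv' aK_add aK_smul aK_zero aK_tor fix_iff)
open Cfsg.Agent.H259.L34 (dz dz_sub dz_smul dz_sr)
open Cfsg.Agent.H201.L34 (gw good_gw)
open Cfsg.Agent.E82.Fr
open Cfsg.Agent.E82.Soc (co St mem_St co_of_lt lt_nr)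

attribute [local instance] Cfsg.Agent.H413.L64.charKK

/-! ### values -/

section Gen

variable {N : ℕ} [NeZero N] {ζ : KK} {z : GK}

/-- the value on a root -/
def dv (u : Fin 8 → ZMod N) (r : ℕ) : ZMod N := dz u (vec chevE8 8 r)

theorem dv_add (u v : Fin 8 → ZMod N) (r : ℕ) : dv (u + v) r = dv u r + dv v r := dz_add_left _ _ _

theorem dv_neg (u : Fin 8 → ZMod N) (r : ℕ) : dv (-u) r = -dv u r := dz_neg_left _ _

theorem conj_pow_one {y : E2} (hy : y ^ N = 1) (z : GK) : (z⁻¹ * em y * z) ^ N = 1 := by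
  rw [← cj_apply, ← map_pow, hy, map_one]

theorem exists_tv (hζ : IsPrimitiveRoot ζ N) {t : GK} (ht : t ∈ TT chevE8 KK) (h : t ^ N = 1) :
    ∃ v : Fin 8 → ZMod N, Tv t v ζ := by
  have h1 : ∀ j, ∃ c : ZMod N, cX e8T t (sr j) = ζ ^ c.val := fun j => by
    have h2 : cX e8T t (sr j) ^ N = 1 := by rw [← cX_pow e8T ht, h, cX_one]
    obtain ⟨c, hc, e⟩ := hζ.eq_pow_of_pow_eq_one h2
    exact ⟨c, by rw [ZMod.val_cast_of_lt hc, e]⟩
  choose v hv using h1
  exact ⟨v, ht, hv⟩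

theorem exists_valN (hζ : IsPrimitiveRoot ζ N) {y : E2} (hy : y ^ N = 1) (h : z⁻¹ * em y * z ∈ TT chevE8 KK) :
    ∃ v : Fin 8 → ZMod N, One y v ζ z := exists_tv hζ h (conj_pow_one hy z)

theorem tv_pow (hζ : IsPrimitiveRoot ζ N) {t : GK} {v : Fin 8 → ZMod N} (h : Tv t v ζ) : t ^ N = 1 :=
  cX_inj e8T (pow_mem h.1 N) (one_mem _) fun j => by
    rw [cX_pow e8T h.1, h.2, ← pow_mul, mul_comm, pow_mul, hζ.pow_eq_one, one_pow, cX_one]

theorem one_one (ζ : KK) (z : GK) : One 1 (0 : Fin 8 → ZMod N) ζ z := by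
  have e : z⁻¹ * em 1 * z = 1 := by rw [map_one, mul_one, inv_mul_cancel]
  refine ⟨by rw [e]; exact one_mem _, fun j => ?_⟩
  rw [e, cX_one, Pi.zero_apply, ZMod.val_zero, pow_zero]

theorem one_pow' (hζ : IsPrimitiveRoot ζ N) {y : E2} {u : Fin 8 → ZMod N} (h : One y u ζ z) (k : ℕ) :
    One (y ^ k) (k • u) ζ z := by
  induction k with
  | zero => rw [pow_zero, zero_smul]; exact one_one ζ z
  | succ k ih => rw [pow_succ, succ_nsmul]; exact ih.mul hζ h

theorem dv_nsmul (k : ℕ) (u : Fin 8 → ZMod N) (r : ℕ) : dv (k • u) r = k * dv u r := by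
  induction k with
  | zero =>
    rw [zero_smul, Nat.cast_zero, zero_mul]
    unfold dv dz
    exact Finset.sum_eq_zero fun i _ => mul_zero _
  | succ k ih => rw [succ_nsmul, dv_add, ih, Nat.cast_succ, add_mul, one_mul]

theorem pow_val_one (hζ : IsPrimitiveRoot ζ N) {a : ZMod N} : ζ ^ a.val = 1 ↔ a = 0 := by
  have h : (1 : KK) = ζ ^ (0 : ZMod N).val := by rw [ZMod.val_zero, pow_zero]
  rw [h, pow_inj_val hζ]

theorem tv_co (hζ : IsPrimitiveRoot ζ N) {t : GK} {v : Fin 8 → ZMod N} (h : Tv t v ζ) {r : ℕ} (hr : r < 240) (w : LK) :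
    co r (aK t w) = ζ ^ (dv v r).val * co r w := by
  rw [co_of_lt (lt_nr hr), co_of_lt (lt_nr hr), aK_tor h.1]
  congr 1
  exact cX_dz hζ h.1 h.2 _

theorem tv_fix (hζ : IsPrimitiveRoot ζ N) {t : GK} {v : Fin 8 → ZMod N} (h : Tv t v ζ) (w : LK) :
    aK t w = w ↔ w ∈ St fun r => dv v r = 0 := by
  constructor
  · intro h1 r hr h0
    have h2 := tv_co hζ h hr w
    rw [h1] at h2
    have h3 : (ζ ^ (dv v r).val - 1) * co r w = 0 := by linear_combination -h2
    exact (mul_eq_zero.1 h3).resolve_left fun h4 => h0 ((pow_val_one hζ).1 (sub_eq_zero.1 h4))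
  · intro h1
    funext i
    rcases i with i | i
    · rw [aK_tor h.1]
      exact one_mul _
    · have hi : (i : ℕ) < 240 := lt_of_lt_of_eq i.2 nr
      have h2 := tv_co hζ h hi w
      rw [co_of_lt i.2, co_of_lt i.2] at h2
      refine h2.trans ?_
      by_cases h0 : dv v i = 0
      · rw [h0, ZMod.val_zero, pow_zero, one_mul]
      · have h3 := h1 i hi h0
        rw [co_of_lt i.2] at h3
        rw [h3, mul_zero]

/-- **the fixed space in a frame** -/
theorem mem_Fx (hζ : IsPrimitiveRoot ζ N) {y : E2} {v : Fin 8 → ZMod N} (h : One y v ζ z) (w : LK) :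
    w ∈ Fx y ↔ aK z⁻¹ w ∈ St fun r => dv v r = 0 := by
  rw [mem_eig1, fix_iff (z := z) (t := cj z y) (by rw [cj_apply]; group), tv_fix hζ h.tv]

end Gen

theorem countP_fin (p : ℕ → Bool) (n : ℕ) : Fintype.card {s : Fin n // p s = true} = (List.range n).countP p := by
  rw [Fintype.card_subtype, Finset.card_filter, Fin.sum_univ_eq_sum_range (fun i => if p i = true then 1 else 0) n]
  induction n with
  | zero => rfl
  | succ n ih =>
    rw [Finset.sum_range_succ, ih, List.range_succ, List.countP_append, List.countP_cons, List.countP_nil, zero_add]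

theorem finrank_St (p : ℕ → Bool) : Module.finrank KK ↥(St fun r => p r = true) = 8 + (List.range 240).countP p := by
  classical
  let ι : {s : Fin chevE8.nroots // (!p s) = true} → chevE8.Idx := fun s => Sum.inr s.1
  have hι : Function.Injective ι := fun a b h => Subtype.ext (Sum.inr_injective h)
  have h1 : (St fun r => p r = true) = LinearMap.ker (LinearMap.funLeft KK KK ι) := by
    ext v
    rw [mem_St, LinearMap.mem_ker]
    constructor
    · intro h
      funext s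
      have h2 := h s.1 (lt_of_lt_of_eq s.1.2 nr) (by have := s.2; rwa [Bool.not_eq_true', ← Bool.not_eq_true] at this)
      rwa [co_of_lt s.1.2] at h2
    · intro h r hr h0
      rw [co_of_lt (lt_nr hr)]
      exact congrFun h ⟨⟨r, lt_nr hr⟩, by rw [Bool.not_eq_true', ← Bool.not_eq_true]; exact h0⟩
  have h2 := LinearMap.finrank_range_add_finrank_ker (LinearMap.funLeft KK KK ι)
  rw [LinearMap.range_eq_top.2 (LinearMap.funLeft_surjective_of_injective KK KK ι hι), finrank_top,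
    Module.finrank_fintype_fun_eq_card, countP_fin (fun r => !p r), ← h1, nr] at h2
  have h3 : Module.finrank KK LK = 248 := Cfsg.Agent.H939.L64.finrank_LK
  have h4 := List.length_eq_countP_add_countP p (l := List.range 240)
  rw [List.length_range] at h4
  have h5 : (List.range 240).countP (fun r => !p r) = (List.range 240).countP fun a => decide ¬p a = true :=
    List.countP_congr fun a _ => by cases p a <;> simp
  have h6 := h2.trans h3
  rw [h5] at h6
  have h7 : (List.range 240).countP (fun a => decide ¬p a = true) + Module.finrank KK ↥(St fun r => p r = true) = 248 := h6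
  omega

theorem finrank_of {A : Submodule KK LK} {z : GK} {p : ℕ → Bool} (h : ∀ w, w ∈ A ↔ aK z⁻¹ w ∈ St fun r => p r = true) :
    Module.finrank KK ↥A = 8 + (List.range 240).countP p := by
  let e : LK ≃ₗ[KK] LK := LinearEquiv.ofLinearMap (lin z) (lin z⁻¹) (LinearMap.ext fun v => aK_inv z v)
    (LinearMap.ext fun v => aK_inv' z v)
  have h1 : A = (St fun r => p r = true).map e.toLinearMap := by
    ext w
    rw [h, Submodule.mem_map]
    exact ⟨fun h2 => ⟨_, h2, aK_inv z w⟩, fun ⟨v, h2, h3⟩ => by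
      have h4 : aK z v = w := h3
      rw [← h4, aK_inv']
      exact h2⟩
  rw [h1, LinearEquiv.finrank_map_eq, finrank_St]

/-- **the dimension of the fixed space** -/
theorem cf_eq {N : ℕ} [NeZero N] {ζ : KK} {z : GK} (hζ : IsPrimitiveRoot ζ N) {y : E2} {v : Fin 8 → ZMod N}
    (h : One y v ζ z) : cf y = 8 + (List.range 240).countP fun r => decide (dv v r = 0) :=
  finrank_of (z := z) fun w => by
    rw [mem_Fx hζ h]
    simp only [decide_eq_true_eq]

/-- **the dimension of the common fixed space** -/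
theorem c2_eq {N M : ℕ} [NeZero N] [NeZero M] {ζ ξ : KK} {z : GK} (hζ : IsPrimitiveRoot ζ N) (hξ : IsPrimitiveRoot ξ M)
    {x y : E2} {u : Fin 8 → ZMod N} {v : Fin 8 → ZMod M} (hx : One x u ζ z) (hy : One y v ξ z) :
    c2 x y = 8 + (List.range 240).countP fun r => decide (dv u r = 0) && decide (dv v r = 0) :=
  finrank_of (z := z) fun w => by
    rw [Submodule.mem_inf, mem_Fx hζ hx, mem_Fx hξ hy]
    simp only [mem_St, Bool.and_eq_true, decide_eq_true_eq]
    exact ⟨fun h r hr h0 => by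
      by_cases h1 : dv u r = 0
      · exact h.2 r hr fun h2 => h0 ⟨h1, h2⟩
      · exact h.1 r hr h1, fun h => ⟨fun r hr h0 => h r hr fun h1 => h0 h1.1, fun r hr h0 => h r hr fun h1 => h0 h1.2⟩⟩

/-! ### words -/

/-- the action of a word on the lattice -/
def fl (l : List ℕ) (a : Q8) : Q8 := (l.map fun r => vec chevE8 8 r).foldr (rc A8) a

section Gen

variable {N : ℕ} [NeZero N] {ζ : KK} {z : GK}

/-- the action of a word on the values -/
def wN (l : List ℕ) (v : Fin 8 → ZMod N) : Fin 8 → ZMod N := fun j => dz v (fl l (sr j))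

theorem exists_wN {l : List ℕ} (hl : ∀ r ∈ l, r < 240) :
    ∃ w, Good w (gw l) ∧ (∀ a, act w a = fl l a) ∧ ∀ v : Fin 8 → ZMod N, wa w v = wN l v := by
  obtain ⟨w, h1, h2⟩ := good_gw l hl
  refine ⟨w, h1, h2, fun v => funext fun j => ?_⟩
  show dz v (act w (sr j)) = _
  rw [h2]
  rfl

theorem dz_wN {l : List ℕ} (hl : ∀ r ∈ l, r < 240) (v : Fin 8 → ZMod N) (a : Q8) : dz (wN l v) a = dz v (fl l a) := by
  obtain ⟨w, -, h2, h3⟩ := exists_wN (N := N) hl
  rw [← h3, dz_wa, h2]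

theorem dv_wN {l : List ℕ} (hl : ∀ r ∈ l, r < 240) (v : Fin 8 → ZMod N) {r s : ℕ}
    (h : fl l (vec chevE8 8 r) = vec chevE8 8 s) : dv (wN l v) r = dv v s := by
  rw [dv, dz_wN hl, h]
  rfl

theorem one_gw (hζ : IsPrimitiveRoot ζ N) {l : List ℕ} (hl : ∀ r ∈ l, r < 240) {y : E2} {v : Fin 8 → ZMod N}
    (h : One y v ζ z) : One y (wN l v) ζ (z * gw l) := by
  obtain ⟨w, h1, -, h3⟩ := exists_wN (N := N) hl
  rw [← h3]
  exact h.rp hζ h1.rp

theorem tv_gw (hζ : IsPrimitiveRoot ζ N) {l : List ℕ} (hl : ∀ r ∈ l, r < 240) {t : GK} {v : Fin 8 → ZMod N}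
    (h : Tv t v ζ) : Tv ((gw l)⁻¹ * t * gw l) (wN l v) ζ := by
  obtain ⟨w, h1, -, h3⟩ := exists_wN (N := N) hl
  rw [← h3]
  exact h.rp hζ h1.rp

/-- **moving to a given normal form** -/
theorem align (hζ : IsPrimitiveRoot ζ N) {x : E2} {v v0 : Fin 8 → ZMod N} {z0 : GK} (h : One x v ζ z) (h0 : One x v0 ζ z0) :
    ∃ z', One x v0 ζ z' ∧ ∀ y : E2, z⁻¹ * em y * z ∈ TT chevE8 KK → z'⁻¹ * em y * z' ∈ TT chevE8 KK := by
  obtain ⟨w, hw⟩ := TupZ.conj_w (ι := Unit) (x := fun _ => x) (V := fun _ => v0) (V' := fun _ => v) hζ (fun _ => h0)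
    (fun _ => h)
  obtain ⟨n, hn⟩ := exists_good w
  refine ⟨z * n, by rw [← hw ()]; exact h.rp hζ hn.rp, fun y hy => ?_⟩
  have e : (z * n)⁻¹ * em y * (z * n) = n⁻¹ * (z⁻¹ * em y * z) * n⁻¹⁻¹ := by group
  rw [e]
  exact (Subgroup.mem_normalizer_iff.1 hn.rp.inv.mem_normalizer _).1 hy

end Gen

/-! ### commuting elements -/

theorem con5 : Cfsg.Agent.H897.T5Cent.Con (k := KK) e8T cs8 locKK 2 5 :=
  Cfsg.Agent.H897.T5Cent.con_of_frm e8T cs8 locKK 2 Nat.prime_five (by norm_num) inv_E8 (Nat.coprime_one_left _) hFrm8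

theorem pgroup5 {G : Type*} [Group G] {S : Set G} (h3 : ∀ x ∈ S, x ^ 5 = 1) (hc : ∀ x ∈ S, ∀ y ∈ S, x * y = y * x) :
    IsPGroup 5 ↥(Subgroup.closure S) := by
  have hcm : ∀ x ∈ Subgroup.closure S, ∀ y ∈ Subgroup.closure S, x * y = y * x := by
    letI := Subgroup.closureCommGroupOfComm hc
    intro x hx y hy
    exact congrArg Subtype.val (mul_comm (⟨x, hx⟩ : ↥(Subgroup.closure S)) ⟨y, hy⟩)
  rintro ⟨y, hy⟩
  refine ⟨1, Subtype.ext ?_⟩
  show y ^ 5 ^ 1 = 1
  rw [pow_one]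
  induction hy using Subgroup.closure_induction with
  | mem a ha => exact h3 a ha
  | one => exact one_pow _
  | mul a b ha hb h1 h2 => rw [(show Commute a b from hcm a ha b hb).mul_pow, h1, h2, one_mul]
  | inv a _ h1 => rw [inv_pow, h1, inv_one]

theorem exists_one {N : ℕ} [NeZero N] (hN : N.Coprime 2) {ζ : KK} (hζ : IsPrimitiveRoot ζ N) {x : E2} (hx : x ^ N = 1) :
    ∃ (v : Fin 8 → ZMod N) (z : GK), One x v ζ z := by
  obtain ⟨v, ⟨-, z, t, rfl, h1, h2⟩, -⟩ := Cfsg.Agent.H413.L64.T0c hN hx hζ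
  exact ⟨v, z, h1, h2⟩

/-- **two commuting elements of order five** -/
theorem step5 {ζ : KK} (hζ : IsPrimitiveRoot ζ 5) {x x' : E2} {v : Fin 8 → ZMod 5} {z : GK} (h : One x' v ζ z)
    (hx : x ^ 5 = 1) (hx' : x' ^ 5 = 1) (hc : Commute x x') :
    ∃ (u : Fin 8 → ZMod 5) (z' : GK), One x u ζ z' ∧ One x' v ζ z' := by
  have hcard : Nat.card CoxeterMatrix.E₈.Group = 696729600 :=
    Cfsg.Agent.S1093.result (⟨8, CoxeterMatrix.E₈⟩, 696729600) (by simp)
  have h5 : ∀ y : E2, y ^ 5 = 1 → cj z y ^ 5 = 1 := fun y hy => by rw [← map_pow, hy, map_one]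
  have hcm : cj z x * cj z x' = cj z x' * cj z x := by rw [← map_mul, ← map_mul, hc.eq]
  obtain ⟨m, hm, s, hs, hms⟩ := Cfsg.Agent.H897.T5Cent.cent_form e8T cs8 locKK 2 con5 h.tv.1 (h5 x' hx') hcm
  obtain ⟨g, hg⟩ := H795.TorSub.exists_toral_step e8T 2 locKK (q := 5) (e := 2) (n := 1) Nat.prime_five (by norm_num)
    (by rw [hcard]; norm_num) (Set.finite_singleton (cj z x')) (by rw [Set.singleton_subset_iff]; exact h.tv.1) hms hm hs
    (by rw [pow_one]; exact h5 x hx) (Q := Subgroup.closure (insert (cj z x) {cj z x'})) (pgroup5 (by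
      rintro a (rfl | rfl)
      · exact h5 x hx
      · exact h5 x' hx') (by
      rintro a (rfl | rfl) b (rfl | rfl)
      · rfl
      · exact hcm
      · exact hcm.symm
      · rfl)) le_rfl
  have e3 : ∀ a : E2, (z * g⁻¹)⁻¹ * em a * (z * g⁻¹) = g * cj z a * g⁻¹ := fun a => by rw [cj_apply]; group
  obtain ⟨v', hv'⟩ := exists_valN hζ hx' (z := z * g⁻¹) (by rw [e3]; exact hg _ (Subgroup.subset_closure (by simp)))
  obtain ⟨z', h1, h2⟩ := align hζ hv' h
  obtain ⟨u, hu⟩ := exists_valN hζ hx (h2 x (by rw [e3]; exact hg _ (Subgroup.subset_closure (by simp))))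
  exact ⟨u, z', hu, h1⟩

theorem cop_pow {G : Type*} [Group G] {y x : G} (hy : y ^ 3 = 1) (hx : x ^ 5 = 1) (hc : Commute y x) :
    (y * x) ^ 15 = 1 ∧ (y * x) ^ 6 = x ∧ (y * x) ^ 10 = y ∧ (y * x) ^ 3 = x ^ 3 ∧ (y * x) ^ 5 = y⁻¹ := by
  refine ⟨?_, ?_, ?_, ?_, ?_⟩
  · rw [hc.mul_pow, show 15 = 3 * 5 from rfl, pow_mul, hy, one_pow, mul_comm 3, pow_mul, hx, one_pow, one_mul]
  · rw [hc.mul_pow, show 6 = 3 * 2 from rfl, pow_mul, hy, one_pow, one_mul, show 3 * 2 = 5 + 1 from rfl, pow_succ, hx, one_mul]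
  · rw [hc.mul_pow, show 10 = 5 * 2 from rfl, pow_mul x, hx, one_pow, mul_one, show 5 * 2 = 3 * 3 + 1 from rfl, pow_succ,
      pow_mul, hy, one_pow, one_mul]
  · rw [hc.mul_pow, hy, one_mul]
  · rw [hc.mul_pow, hx, mul_one, eq_inv_iff_mul_eq_one, ← pow_succ, show 5 + 1 = 3 * 2 from rfl, pow_mul, hy, one_pow]

/-- **commuting elements of orders three and five** -/
theorem step15 {ζ ω : KK} (hζ : IsPrimitiveRoot ζ 5) (hω : IsPrimitiveRoot ω 3) {y x' : E2} {v : Fin 8 → ZMod 5} {z : GK}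
    (h : One x' v ζ z) (hy : y ^ 3 = 1) (hx' : x' ^ 5 = 1) (hc : Commute y x') :
    ∃ (u : Fin 8 → ZMod 3) (z' : GK), One y u ω z' ∧ One x' v ζ z' := by
  obtain ⟨ξ, hξ⟩ := Cfsg.Agent.H939.L64.exists_zeta 15 (by decide)
  obtain ⟨h15, e1, e2, -⟩ := cop_pow hy hx' hc
  obtain ⟨s, z1, hs⟩ := exists_one (N := 15) (by decide) hξ h15
  have h1 := (one_pow' hξ hs 6).1
  have h2 := (one_pow' hξ hs 10).1
  rw [e1] at h1
  rw [e2] at h2
  obtain ⟨v', hv'⟩ := exists_valN hζ hx' h1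
  obtain ⟨z', h3, h4⟩ := align hζ hv' h
  obtain ⟨u, hu⟩ := exists_valN hω hy (h4 y h2)
  exact ⟨u, z', hu, h3⟩

theorem six_pts : ∀ a b : ZMod 5, (if a = 0 then 1 else 0) + (if b = 0 then 1 else 0) + (if a + 1 * b = 0 then 1 else 0) +
    (if a + 2 * b = 0 then 1 else 0) + (if a + 3 * b = 0 then 1 else 0) + (if a + 4 * b = 0 then 1 else 0) =
      1 + 5 * (if a = 0 ∧ b = 0 then 1 else 0) := by decide

theorem six_cnt (a b : ℕ → ZMod 5) (l : List ℕ) : (l.countP fun r => decide (a r = 0)) + (l.countP fun r => decide (b r = 0)) +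
    (l.countP fun r => decide (a r + 1 * b r = 0)) + (l.countP fun r => decide (a r + 2 * b r = 0)) +
    (l.countP fun r => decide (a r + 3 * b r = 0)) + (l.countP fun r => decide (a r + 4 * b r = 0)) =
      l.length + 5 * l.countP fun r => decide (a r = 0) && decide (b r = 0) := by
  induction l with
  | nil => rfl
  | cons r l ih =>
    have h := six_pts (a r) (b r)
    simp only [List.countP_cons, List.length_cons, decide_eq_true_eq, Bool.and_eq_true]
    omega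

/-- **the six points** -/
theorem dim5 {x x' : E2} (hx : x ^ 5 = 1) (hx' : x' ^ 5 = 1) (hc : Commute x x') :
    cf x + cf x' + cf (x * x') + cf (x * x' ^ 2) + cf (x * x' ^ 3) + cf (x * x' ^ 4) = 248 + 5 * c2 x x' := by
  obtain ⟨ζ, hζ⟩ := Cfsg.Agent.H939.L64.exists_zeta 5 (by decide)
  obtain ⟨v, z0, h0⟩ := exists_one (N := 5) (by decide) hζ hx'
  obtain ⟨u, z, h1, h2⟩ := step5 hζ h0 hx hx' hc
  have key : ∀ k : ℕ, cf (x * x' ^ k) = 8 + (List.range 240).countP fun r => decide (dv u r + k * dv v r = 0) := fun k => by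
    rw [cf_eq hζ (h1.mul hζ (one_pow' hζ h2 k))]
    simp only [dv_add, dv_nsmul]
  have e1 := key 1
  have e2 := key 2
  have e3 := key 3
  have e4 := key 4
  rw [pow_one] at e1
  have e5 := six_cnt (dv u) (dv v) (List.range 240)
  rw [List.length_range] at e5
  rw [e1, e2, e3, e4, cf_eq hζ h1, cf_eq hζ h2, c2_eq hζ hζ h1 h2]
  push_cast
  omega

/-! ### fixed spaces of products and powers -/

theorem mem_Fx' {g : E2} {v : LK} : v ∈ Fx g ↔ g ∈ stabV v := mem_eig1

theorem c2_comm (g h : E2) : c2 g h = c2 h g := by unfold c2; rw [inf_comm]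

/-- commuting elements of orders three and five -/
theorem c2_cop {y x : E2} (hy : y ^ 3 = 1) (hx : x ^ 5 = 1) (hc : Commute y x) :
    c2 y x = cf (y * x) ∧ (y * x) ^ 15 = 1 ∧ (y * x) ^ 3 = x ^ 3 ∧ (y * x) ^ 5 = y⁻¹ := by
  obtain ⟨h15, e1, e2, e3, e4⟩ := cop_pow hy hx hc
  refine ⟨?_, h15, e3, e4⟩
  have h : Fx y ⊓ Fx x = Fx (y * x) := by
    ext v
    rw [Submodule.mem_inf, mem_Fx', mem_Fx', mem_Fx']
    refine ⟨fun h => mul_mem h.1 h.2, fun h => ⟨?_, ?_⟩⟩
    · have h1 := pow_mem h 10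
      rwa [e2] at h1
    · have h1 := pow_mem h 6
      rwa [e1] at h1
  unfold c2
  rw [h]
  rfl

theorem pow_back {G : Type*} [Group G] {x : G} (hx : x ^ 5 = 1) {k : ℕ} (hk : ¬ 5 ∣ k) : (x ^ k) ^ (k ^ 3) = x := by
  have h2 : (k * k ^ 3) % 5 = 1 := by
    have h3 : k % 5 = 1 ∨ k % 5 = 2 ∨ k % 5 = 3 ∨ k % 5 = 4 := by omega
    rcases h3 with h3 | h3 | h3 | h3 <;> rw [Nat.mul_mod, Nat.pow_mod, h3]
  rw [← pow_mul, ← Nat.div_add_mod (k * k ^ 3) 5, pow_add, pow_mul, hx, one_pow, one_mul, h2, pow_one]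

theorem Fx_pow {x : E2} (hx : x ^ 5 = 1) {k : ℕ} (hk : ¬ 5 ∣ k) : Fx (x ^ k) = Fx x := by
  ext v
  rw [mem_Fx', mem_Fx']
  refine ⟨fun h => ?_, fun h => pow_mem h k⟩
  have h1 := pow_mem h (k ^ 3)
  rwa [pow_back hx hk] at h1

theorem cf_pow {x : E2} (hx : x ^ 5 = 1) {k : ℕ} (hk : ¬ 5 ∣ k) : cf (x ^ k) = cf x := by
  have h := Fx_pow hx hk
  unfold cf
  exact congrArg (fun A : Submodule KK LK => Module.finrank KK ↥A) h

end Cfsg.Agent.E82.F5
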