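import Cfsg.Agent.E82.F5.V5E

/-!
# S3369: the boxes `V5B`, `V5C`, `V5D` (helper40)
-/

set_option autoImplicit false
set_option linter.unusedSectionVars false
set_option maxRecDepth 100000
set_option maxHeartbeats 400000

namespace Cfsg.Agent.E82.F5

open Cfsg Cfsg.Lie Cfsg.Lie.ChevalleyDatum Matrix
open Cfsg.Agent.Tits.Roots Cfsg.Agent.ChevalleyStructure.CoxeterGeomTypes Cfsg.Agent.Nodes.RGDChev
open Cfsg.Agent.KFacts.RgdChevCoord (TT)
open Cfsg.Agent.H939.L64 (KK E2 LK em aK rE)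
open Cfsg.Agent.H413.L16 (er hv hr act cast_odd)
open Cfsg.Agent.H876.L64 (aK_mul aK_one aK_inv aK_inv' aK_add aK_smul aK_zero fix_iff two_zero)
open Cfsg.Agent.H942.L16 (BF BF_aK BF_hr_hr ipr)
open Cfsg.Agent.H201.L34 (gw gz gz_gz)
open Cfsg.Agent.H259.L34 (dz dz_sr)
open Cfsg.Agent.H239.E8P (io1 RT RT_lt)
open Cfsg.Agent.Lib.VonDyck (a5 b5 a5_sq b5_pow ab5_pow closure_a5_b5 exists_hom_alternatingFive)
open Cfsg.Agent.E82.Fr
open Cfsg.Agent.E82.Soc (St)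

attribute [local instance] Cfsg.Agent.H413.L64.charKK

theorem rel_r1 : a5 * x5 * a5 = x5⁻¹ * a5 * x5⁻¹ := by decide +kernel

theorem rel_rw : a5 * w5 = x5⁻¹ * x5⁻¹ * a5 * x5 * x5 * a5 * x5⁻¹ * x5⁻¹ := by decide +kernel

theorem rel_wx : w5 * x5 = x5⁻¹ * w5 := by decide +kernel

theorem rel_b : a5 * x5 = b5 := by decide +kernel

theorem rel_aa : a5 * a5 = 1 := by decide +kernel

/-- a subgroup which contains `a5` and `x5` -/
theorem all_of {K : Subgroup A5} (ha : a5 ∈ K) (hx : x5 ∈ K) (g : A5) : g ∈ K := by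
  have h : Subgroup.closure {a5, b5} ≤ K := (Subgroup.closure_le _).2 (by
    rintro _ (rfl | rfl)
    · exact ha
    · exact rel_b ▸ mul_mem ha hx)
  exact h (closure_a5_b5 ▸ Subgroup.mem_top g)

theorem map_pow_one {G H : Type*} [Group G] [Group H] (f : G →* H) {g : G} {n : ℕ} (h : g ^ n = 1) : f g ^ n = 1 := by
  rw [← map_pow, h, map_one]

theorem gz_tv {ζ : KK} (hζ : IsPrimitiveRoot ζ 5) {s : GK} {v : Fin 8 → ZMod 5} (h : Tv s v ζ) : gz⁻¹ * s * gz = s⁻¹ := by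
  obtain ⟨w, h1, h2⟩ := good_gz
  have h3 := h.rp hζ h1.rp
  have h4 : wa w v = -v := funext fun j => by
    show dz v (act w (sr j)) = _
    rw [h2, dz_neg, dz_sr]
    rfl
  rw [h4] at h3
  exact h3.ext (h.inv hζ)

theorem inv_comm {G : Type*} [Group G] {t g s : G} (h1 : t * s * t⁻¹ = s⁻¹) (h2 : g⁻¹ * s * g = s⁻¹) (h3 : g * g = 1) :
    t * g * s = s * (t * g) ∧ t = t * g * g := by
  have h4 : g⁻¹ = g := inv_eq_of_mul_eq_one_right h3
  rw [h4] at h2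
  refine ⟨?_, by rw [mul_assoc, h3, mul_one]⟩
  have h5 : t * s⁻¹ * t⁻¹ = s := by rw [← conj_inv, h1, inv_inv]
  calc t * g * s = t * (g * s * g) * t⁻¹ * (t * g⁻¹) := by group
    _ = s * (t * g) := by rw [h2, h5, h4]

/-- the data of the bridge -/
structure Br (φ : A5 →* E2) (x' t : E2) (ζ ω : KK) (z : GK) (ψ : Fin 2 → A5 →* M5ˣ) (P : Fin 2 → M5ˣ)
    (e : Fin 2 → Fin 5 → ZMod 5) (f : Fin 2 → Fin 5 → ZMod 3) : Prop where
  z5 : IsPrimitiveRoot ζ 5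
  one : One x' v48 ζ z
  tx : cj z (φ x5) ∈ TT chevE8 KK
  au : ∀ g, Au (cj z (φ g)) fun c => ψ c g
  ant : ∀ (c : Fin 2) (A : M5), A.trace = 0 → aK (cj z t) (io1 KK c A) = io1 KK c ((P c : M5) * Aᵀ * ((P c)⁻¹ : M5ˣ))
  xd : ∀ c, (ψ c x5 : M5) = dgz ζ (e c)
  rep : ∀ c, Rep ζ ω (ψ c a5 : M5) (ψ c w5 : M5) (P c : M5) (((P c)⁻¹ : M5ˣ) : M5) (e c) (f c)
  cx : c2 (φ x5) x' = 8 + (cnt (e 0) + cnt (e 1))
  cb : c2 (φ b5) x' = 8 + (cnt (f 0) + cnt (f 1))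

/-- **the bridge** -/
theorem VH.br {φ : A5 →* E2} {x' t : E2} (h : VH φ x' t) : ∃ ζ ω z ψ P e f, Br φ x' t ζ ω z ψ P e f := by
  obtain ⟨ζ, hζ⟩ := Cfsg.Agent.H939.L64.exists_zeta 5 (by decide)
  obtain ⟨ω, hω⟩ := Cfsg.Agent.H939.L64.exists_zeta 3 (by decide)
  obtain ⟨z0, h0⟩ := norm48' hζ h.p2 h.f48
  obtain ⟨u, z, h1, h2⟩ := step5 hζ h0 (map_pow_one φ x5_pow) h.p2 (h.cm x5)
  have hc : ∀ g, cj z (φ g) * cj z x' = cj z x' * cj z (φ g) := fun g => by rw [← map_mul, ← map_mul, (h.cm g).eq]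
  have hct : ∀ g, cj z (φ g) * cj z t = cj z t * cj z (φ g) := fun g => by rw [← map_mul, ← map_mul, (h.ct g).eq]
  obtain ⟨k1, k2⟩ := inv_comm (t := cj z t) (by rw [← map_inv, ← map_mul, ← map_mul, h.inv, map_inv]) (gz_tv hζ h2.tv) gz_gz
  obtain ⟨P, hP⟩ := exists_Au hζ h2.tv k1
  have ant : ∀ (c : Fin 2) (A : M5), A.trace = 0 →
      aK (cj z t) (io1 KK c A) = io1 KK c ((P c : M5) * Aᵀ * ((P c)⁻¹ : M5ˣ)) := fun c A hA => by
    rw [k2, aK_mul, gz_io c hA, hP c _ (by rw [trace_transpose, hA])]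
  obtain ⟨U1, hU1⟩ := exists_Au hζ h2.tv (hc a5)
  obtain ⟨UA, hA, hA'⟩ := hU1.lift (n := 2) (k := 2) (map_pow_one _ (map_pow_one φ a5_sq)) (by norm_num)
  obtain ⟨U2, hU2⟩ := exists_Au hζ h2.tv (hc b5)
  obtain ⟨UB, hB, hB'⟩ := hU2.lift (n := 3) (k := 3) (map_pow_one _ (map_pow_one φ b5_pow)) (by norm_num)
  have fA := fun c => form ant hA (hct a5) (n := 2) (k := 2) (by norm_num) c (hA' c).1 (hA' c).2
  have fB := fun c => form ant hB (hct b5) (n := 3) (k := 3) (by norm_num) c (hB' c).1 (hB' c).2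
  have fX : ∀ c, ((UA c * UB c : M5ˣ) : M5) * P c * ((UA c * UB c : M5ˣ) : M5)ᵀ = P c := fun c => by
    rw [Units.val_mul, transpose_mul]
    linear_combination (norm := noncomm_ring) (UA c : M5) * fB c * (UA c : M5)ᵀ + fA c
  have h5 : ∀ c, (UA c * UB c) ^ 5 = 1 := fun c => by
    have h3 := (hA.mul hB).pow 5
    rw [← map_mul, ← map_mul, map_pow_one _ (map_pow_one φ ab5_pow)] at h3
    obtain ⟨σ, hσ⟩ := h3.scal c
    rw [Pi.pow_apply, Pi.mul_apply] at hσ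
    have h4 : ∀ m : ℕ, (((UA c * UB c) ^ m : M5ˣ) : M5) * P c * (((UA c * UB c) ^ m : M5ˣ) : M5)ᵀ = P c := fun m => by
      induction m with
      | zero => rw [pow_zero, Units.val_one, transpose_one, one_mul, mul_one]
      | succ m ih =>
        rw [pow_succ', Units.val_mul, transpose_mul]
        have h6 := fX c
        generalize (((UA c * UB c) ^ m : M5ˣ) : M5) = Y at ih ⊢
        generalize ((UA c * UB c : M5ˣ) : M5) = X at h6 ⊢
        linear_combination (norm := noncomm_ring) X * ih * Xᵀ + h6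
    have h6 := h4 5
    rw [hσ, transpose_smul, transpose_one, smul_mul_assoc, one_mul, smul_mul_smul_comm, mul_one] at h6
    have h7 : (σ * σ) • (1 : M5) = 1 := by rw [← (P c).mul_inv, ← smul_mul_assoc, h6]
    have h8 := congrFun (congrFun h7 0) 0
    rw [Matrix.smul_apply, one_apply_eq, smul_eq_mul, mul_one] at h8
    rw [sq_one h8, one_smul] at hσ
    exact Units.ext hσ
  choose ψ hψa hψb using fun c => exists_hom_alternatingFive (hA' c).1 (hB' c).1 (h5 c)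
  have au : ∀ g, Au (cj z (φ g)) fun c => ψ c g := fun g => by
    have hg : g ∈ Subgroup.closure {a5, b5} := closure_a5_b5 ▸ Subgroup.mem_top g
    induction hg using Subgroup.closure_induction with
    | mem a ha =>
      rcases ha with rfl | rfl
      · rw [funext hψa]; exact hA
      · rw [funext hψb]; exact hB
    | one => simp only [map_one]; exact Au.one
    | mul a b _ _ ha hb => simp only [map_mul]; exact ha.mul hb
    | inv a _ ha => simp only [map_inv]; exact ha.inv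
  obtain ⟨e, he⟩ := (au x5).diag hζ h1.tv fun c => map_pow_one _ x5_pow
  obtain ⟨u3, z2, m1, m2⟩ := step15 hζ hω h2 (map_pow_one φ b5_pow) h.p2 (h.cm b5)
  have e2 : ∀ g : E2, cj z2 g = (z⁻¹ * z2)⁻¹ * cj z g * (z⁻¹ * z2) := fun g => by rw [cj_apply, cj_apply]; group
  obtain ⟨Q, hQ⟩ := exists_Au hζ h2.tv (g := z⁻¹ * z2) (by
    have h3 := m2.tv.ext h2.tv
    rw [e2] at h3
    conv_lhs => rw [← h3]
    group)
  have m3 := (hQ.inv.mul (au b5)).mul hQ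
  rw [← e2] at m3
  obtain ⟨f, hf⟩ := m3.diag hω m1.tv fun c => by
    show ((Q c)⁻¹ * ψ c b5 * Q c) ^ 3 = 1
    have h3 : (Q c)⁻¹ * ψ c b5 * Q c = (Q c)⁻¹ * ψ c b5 * (Q c)⁻¹⁻¹ := by rw [inv_inv]
    rw [h3, conj_pow, map_pow_one _ b5_pow, mul_one, mul_inv_cancel]
  refine ⟨ζ, ω, z, ψ, P, e, f, hζ, h2, h1.tv.1, au, ant, fun c => (he c).1, fun c => ?_, ?_, ?_⟩
  · have xd : (ψ c x5 : M5) = dgz ζ (e c) := (he c).1
    have yd : (ψ c x5⁻¹ : M5) = dgz ζ (-e c) := by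
      rw [map_inv]
      exact Units.inv_eq_of_mul_eq_one_right (by rw [xd]; exact dgz_xy hζ _)
    have tr : ∀ {g g' : A5}, g = g' → (ψ c g : M5) = ψ c g' := fun hg => by rw [hg]
    have bd : (ψ c a5 : M5) * dgz ζ (e c) = ψ c b5 := by rw [← xd, ← Units.val_mul, ← map_mul, rel_b]
    refine ⟨hζ, hω, ?_, ?_, ?_, ?_, ?_, (P c).mul_inv, ?_, ?_, ⟨Q c, (Q c)⁻¹.1, (Q c).mul_inv, (Q c).inv_mul, ?_⟩, ?_⟩
    · rw [← Units.val_mul, ← map_mul, rel_aa, map_one, Units.val_one]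
    · rw [← Units.val_mul, ← map_mul, w5_sq, map_one, Units.val_one]
    · have h3 := tr rel_r1
      simp only [map_mul, Units.val_mul, xd, yd] at h3
      exact h3
    · have h3 := tr rel_rw
      simp only [map_mul, Units.val_mul, xd, yd] at h3
      exact h3
    · have h3 := tr rel_wx
      simp only [map_mul, Units.val_mul, xd, yd] at h3
      exact h3
    · rw [hψa]
      exact fA c
    · rw [← xd, x5, map_mul, hψa, hψb]
      exact fX c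
    · rw [bd]
      exact (hf c).1
    · rw [bd, hψb]
      exact (hB' c).2
  · rw [c2_eq hζ hζ h1 h2, cnt_eq fun c => (he c).2]
  · rw [c2_eq hω hζ m1 m2, cnt_eq fun c => (hf c).2]

section

variable {φ : A5 →* E2} {x' t : E2} {ζ ω : KK} {z : GK} {ψ : Fin 2 → A5 →* M5ˣ} {P : Fin 2 → M5ˣ}
  {e : Fin 2 → Fin 5 → ZMod 5} {f : Fin 2 → Fin 5 → ZMod 3}

theorem Br.vals (h : Br φ x' t ζ ω z ψ P e f) (c : Fin 2) :
    (cnt (e c) = 20 ∨ cnt (e c) = 6 ∨ (cnt (e c) = 4 ∧ cnt (f c) = 4) ∨ cnt (e c) = 0) ∧ 4 ≤ cnt (f c) := by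
  refine ⟨?_, (h.rep c).f4⟩
  rcases (h.rep c).cases with h1 | h1 | h1 | h1
  · exact Or.inl h1
  · exact Or.inr (Or.inl h1)
  · exact Or.inr (Or.inr (Or.inl ⟨h1.1, (h.rep c).b4 h1⟩))
  · exact Or.inr (Or.inr (Or.inr h1.1))

theorem Br.ty (h : Br φ x' t ζ ω z ψ P e f) (ht : Ty80 φ x') (c : Fin 2) :
    cnt (e c) = 4 ∨ (cnt (e c) = 0 ∧ cnt (f c) = 4) := by
  have h0 := h.vals 0
  have h1 := h.vals 1
  have h2 := h.cx
  have h3 := h.cb
  unfold Ty80 at ht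
  fin_cases c
  · show cnt (e 0) = 4 ∨ (cnt (e 0) = 0 ∧ cnt (f 0) = 4)
    omega
  · show cnt (e 1) = 4 ∨ (cnt (e 1) = 0 ∧ cnt (f 1) = 4)
    omega

theorem fix_cj (z : GK) (g : E2) (v : LK) : rE g v = v ↔ aK (cj z g) (aK z⁻¹ v) = aK z⁻¹ v :=
  fix_iff (z := z) (t := cj z g) (by rw [cj_apply]; group) v

theorem Br.coord (h : Br φ x' t ζ ω z ψ P e f) {v : LK} (hv' : v ∈ Fx x') : ∃ A, Tr0 A ∧ aK z⁻¹ v = io A ∧
    ∀ g, rE (φ g) v = v ↔ ∀ c, A c * (ψ c g : M5) = ψ c g * A c := by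
  obtain ⟨A, h1, h2⟩ := io_surj ((mem_Fx h.z5 h.one v).1 hv')
  exact ⟨A, h1, h2, fun g => by rw [fix_cj z, h2, (h.au g).fix_iff h1]⟩

end

/-- **box V5B** -/
theorem v5b : V5B := by
  intro φ x' t h h16
  obtain ⟨ζ, ω, z, ψ, P, e, f, hb⟩ := h.br
  have h0 := hb.vals 0
  have h1 := hb.vals 1
  have h2 := hb.cx
  have h3 := hb.cb
  omega

/-- **box V5C** -/
theorem v5c : V5C := by
  intro φ x' t h ht v hv' hw
  obtain ⟨ζ, ω, z, ψ, P, e, f, hb⟩ := h.br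
  obtain ⟨A, -, -, h3⟩ := hb.coord hv'.2
  have hx : rE (φ x5) v = v := mem_eig1.1 hv'.1
  have ha : rE (φ a5) v = v := (h3 a5).2 fun c =>
    (hb.rep c).comm (hb.ty ht c) (by rw [← hb.xd]; exact (h3 x5).1 hx c) ((h3 w5).1 hw c)
  exact fun g => all_of (K := (stabV v).comap φ) ha hx g

theorem ipr_odd : ∀ (c : Fin 2) (i j k : Fin 5), i ≠ k → j ≠ k → i ≠ j → ipr (RT c i k) (RT c j k) % 2 ≠ 0 := by
  decide +kernel

/-- **box V5D** -/
theorem v5d : V5D := by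
  intro φ x' t h h8
  obtain ⟨ζ, ω, z, ψ, P, e, f, hb⟩ := h.br
  have h2 := hb.cx
  have h0 : ∀ c, cnt (e c) = 0 := fun c => by
    fin_cases c
    · show cnt (e 0) = 0
      omega
    · show cnt (e 1) = 0
      omega
  have wi : ∀ c, (((ψ c w5)⁻¹ : M5ˣ) : M5) = ψ c w5 := fun c => Units.inv_eq_of_mul_eq_one_right (hb.rep c).ww
  constructor
  · obtain ⟨-, i, j, k, hik, hjk, hij, h3⟩ := (hb.rep 0).tor (h0 0)
    refine ⟨aK z (hr (RT 0 i k)), ⟨mem_eig1.2 ?_, mem_eig1.2 ?_⟩, ?_⟩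
    · rw [rE_cj, aK_t_hr hb.tx]
    · rw [rE_cj, aK_t_hr hb.one.tv.1]
    · rw [rE_cj, BF_aK, ← io_D 0 hik, hb.au w5 0 _ (tr_D i k), wi, h3, io_D 0 hik, io_D 0 hjk, BF_hr_hr,
        cast_odd (ipr_odd 0 i j k hik hjk hij)]
      exact one_ne_zero
  · intro v hv'
    obtain ⟨A, h3, h4, h5⟩ := hb.coord hv'.2
    have h6 := (h5 x5).1 (mem_eig1.1 hv'.1)
    have h7 : v = aK z (io A) := by rw [← h4, aK_inv]
    have h9 := fun c => ((hb.rep c).tor (h0 c)).1 (A c) (by rw [← hb.xd]; exact h6 c)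
    rw [h7, rE_cj, rE_cj, (hb.au w5).io h3, io, aK_add, hb.ant 0 _ (h3 0), hb.ant 1 _ (h3 1), h9, h9, io, wi, wi]

end Cfsg.Agent.E82.F5
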