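import Cfsg.Agent.E82.F5.Frame
import Cfsg.Agent.E82.F5.M5
import Cfsg.Agent.H239.E8P.Tor

/-!
# S3369: the centraliser `A₄A₄` of an element of order five on `sl₅ + sl₅` (helper40)

* `io`, `io_inj`, `io_surj` : the fixed space of the torus element with the values `v48`;
* `Au g U` : `g` acts by the conjugations with `U 0`, `U 1`; `exists_Au`, `Au.scal`, `Au.lift`, `Au.diag`, `form`.
-/

set_option autoImplicit false
set_option linter.unusedSectionVars false
set_option maxRecDepth 100000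
set_option maxHeartbeats 400000

namespace Cfsg.Agent.E82.F5

open Cfsg Cfsg.Lie Cfsg.Lie.ChevalleyDatum Matrix
open Cfsg.Agent.Tits.Roots Cfsg.Agent.ChevalleyStructure.CoxeterGeomTypes Cfsg.Agent.Nodes.RGDChev
open Cfsg.Agent.ChevalleyStructure.Columns (car cor)
open Cfsg.Agent.KFacts.RgdChevCoord (TT coe_xc)
open Cfsg.Agent.BpExc.RowsUntw (e8T)
open Cfsg.Agent.H939.L64 (KK E2 LK em aK rE)
open Cfsg.Agent.H413.L16 (er hv hr xr nr rk8 six hr_six cast_congr cast_even cast_odd lin er_inr)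
open Cfsg.Agent.H876.L64 (aK_mul aK_one aK_inv aK_inv' aK_add aK_smul aK_zero fix_iff two_zero)
open Cfsg.Agent.H942.L16 (BF BF_aK BF_hr_hr ipr)
open Cfsg.Agent.H201.L34 (gw gz aK_gz aK_gz_hr)
open Cfsg.Agent.H239.E8P (io1 EV HV HK RT SG SG_one RT_lt RT_inj io1_E io1_H ext_tr0 corv_RT Acts acts_xG acts_diag hE
  trace_conj E_ne)
open Cfsg.Agent.E82.Fr
open Cfsg.Agent.E82.Soc (co coL St Sp mem_St co_er_self co_er_ne co_hr co_hv co_add Sp_le T0)

attribute [local instance] Cfsg.Agent.H413.L64.charKK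

/-- the matrices -/
abbrev M5 : Type := Matrix (Fin 5) (Fin 5) KK

/-- the values of the element with the centraliser `A₄A₄` -/
def v48 : Fin 8 → ZMod 5 := ![4, 4, 4, 4, 1, 4, 4, 4]

variable {ζ : KK}

theorem norm48' (hζ : IsPrimitiveRoot ζ 5) {x : E2} (hx : x ^ 5 = 1) (h : cf x = 48) : ∃ z, One x v48 ζ z := by
  obtain ⟨z, hz⟩ := norm48 hζ hx h
  have h1 := one_gw hζ (l := [156, 167, 146, 126]) (by decide) hz
  rw [show wN [156, 167, 146, 126] (![0, 0, 0, 0, 1, 0, 0, 0] : Fin 8 → ZMod 5) = v48 by decide +kernel] at h1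
  exact ⟨_, h1⟩

/-! ### the embedding -/

theorem io_E (c : Fin 2) {i j : Fin 5} (h : i ≠ j) : io1 KK c (single i j 1) = er (RT c i j) := by
  rw [io1_E c h, EV]
  have h1 : ((SG c i j : ℤ) : KK) = 1 := by
    rcases SG_one c i j with h2 | h2 <;> rw [h2]
    · exact Int.cast_one
    · exact cast_odd (by decide)
  rw [h1, one_smul]
  funext a
  rcases a with a | a
  · exact (Soc.er_T0 _ a).symm
  · rw [er_inr]
    exact if_congr eq_comm rfl rfl

theorem corv_eq (r : ℕ) : Cfsg.Agent.ChevalleyStructure.XColumns.corv chevE8 KK r = hr r := by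
  funext a
  rcases a with a | a <;> rfl

theorem io_H (c : Fin 2) (k : Fin 4) : io1 KK c (HK KK k) = hr (RT c k.castSucc k.succ) := by
  rw [io1_H, HV, corv_eq]

theorem io_D (c : Fin 2) {i j : Fin 5} (h : i ≠ j) : io1 KK c (single i i 1 - single j j 1) = hr (RT c i j) := by
  rw [← corv_eq, corv_RT c h]

theorem cs_ne (k : Fin 4) : k.castSucc ≠ k.succ := (Fin.castSucc_lt_succ).ne

theorem HK_off (k : Fin 4) {i j : Fin 5} (h : i ≠ j) : HK KK k i j = 0 := by
  rw [HK, Matrix.sub_apply, E_ne fun h1 => h (h1.1.symm.trans h1.2), E_ne fun h1 => h (h1.1.symm.trans h1.2), sub_zero]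

theorem co_io {c c' : Fin 2} {i j : Fin 5} (h : i ≠ j) {A : M5} (hA : A.trace = 0) :
    co (RT c i j) (io1 KK c' A) = if c = c' then A i j else 0 := by
  by_cases hc : c = c'
  · subst hc
    rw [if_pos rfl]
    refine ext_tr0 (L1 := coL (RT c i j) ∘ₗ io1 KK c) (L2 := Matrix.entryLinearMap KK KK i j) (fun k l hkl => ?_)
      (fun k => ?_) A hA
    · show co _ (io1 KK c (single k l 1)) = single k l (1 : KK) i j
      rw [io_E c hkl, single_apply]
      split_ifs with h1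
      · rw [h1.1, h1.2, co_er_self (RT_lt c i j h)]
      · exact co_er_ne fun h2 => h1 (RT_inj _ _ _ hkl _ _ _ h h2).2
    · show co _ (io1 KK c (HK KK k)) = HK KK k i j
      rw [io_H, co_hr, HK_off k h]
  · rw [if_neg hc]
    refine ext_tr0 (L1 := coL (RT c i j) ∘ₗ io1 KK c') (L2 := 0) (fun k l hkl => ?_) (fun k => ?_) A hA
    · show co _ (io1 KK c' (single k l 1)) = 0
      rw [io_E c' hkl]
      exact co_er_ne fun h2 => hc (RT_inj _ _ _ hkl _ _ _ h h2).1.symm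
    · show co _ (io1 KK c' (HK KK k)) = 0
      rw [io_H, co_hr]

theorem ipr_tab : ∀ (c c' : Fin 2) (i j : Fin 5) (k : Fin 4), i ≠ j → (ipr (RT c i j) (RT c' k.castSucc k.succ) -
    if c = c' then ((if k.castSucc = i then 1 else 0) - (if k.succ = i then 1 else 0)) -
      ((if k.castSucc = j then 1 else 0) - (if k.succ = j then 1 else 0)) else 0) % 2 = 0 := by decide +kernel

theorem bf_io {c c' : Fin 2} {i j : Fin 5} (h : i ≠ j) {A : M5} (hA : A.trace = 0) :
    BF (hr (RT c i j)) (io1 KK c' A) = if c = c' then A i i - A j j else 0 := by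
  have h1 : ∀ {k l : Fin 5}, k ≠ l → ∀ a, single k l (1 : KK) a a = 0 := fun hkl a =>
    E_ne fun h1 => hkl (h1.1.trans h1.2.symm)
  have h2 : ∀ (k : Fin 4) (a : Fin 5), HK KK k a a = (if k.castSucc = a then 1 else 0) - (if k.succ = a then 1 else 0) :=
    fun k a => by simp only [HK, Matrix.sub_apply, single_apply, and_self_iff]
  by_cases hc : c = c'
  · subst hc
    rw [if_pos rfl]
    refine ext_tr0 (L1 := BF (hr (RT c i j)) ∘ₗ io1 KK c)
      (L2 := Matrix.entryLinearMap KK KK i i - Matrix.entryLinearMap KK KK j j) (fun k l hkl => ?_) (fun k => ?_) A hA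
    · show BF _ (io1 KK c (single k l 1)) = single k l (1 : KK) i i - single k l (1 : KK) j j
      rw [io_E c hkl, BF_hr_er _ (RT_lt c k l hkl), h1 hkl, h1 hkl, sub_zero]
    · show BF _ (io1 KK c (HK KK k)) = HK KK k i i - HK KK k j j
      have h3 := cast_congr (ipr_tab c c i j k h)
      rw [if_pos rfl] at h3
      rw [io_H, BF_hr_hr, h3, h2, h2]
      push_cast
      rfl
  · rw [if_neg hc]
    refine ext_tr0 (L1 := BF (hr (RT c i j)) ∘ₗ io1 KK c') (L2 := 0) (fun k l hkl => ?_) (fun k => ?_) A hA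
    · show BF _ (io1 KK c' (single k l 1)) = 0
      rw [io_E c' hkl, BF_hr_er _ (RT_lt c' k l hkl)]
    · show BF _ (io1 KK c' (HK KK k)) = 0
      have h3 := cast_congr (ipr_tab c c' i j k h)
      rw [if_neg hc] at h3
      rw [io_H, BF_hr_hr, h3, Int.cast_zero]

/-- the embedding of `sl₅ + sl₅` -/
noncomputable def io (A : Fin 2 → M5) : LK := io1 KK 0 (A 0) + io1 KK 1 (A 1)

/-- trace zero -/
def Tr0 (A : Fin 2 → M5) : Prop := ∀ c, (A c).trace = 0

theorem eq_of_tr {A B : M5} (hA : A.trace = 0) (hB : B.trace = 0) (h1 : ∀ i j, i ≠ j → A i j = B i j)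
    (h2 : ∀ i j, i ≠ j → A i i - A j j = B i i - B j j) : A = B := by
  ext i j
  by_cases h : i = j
  · subst h
    have h3 : ∀ j, A j j - B j j = A i i - B i i := fun j => by
      by_cases h4 : i = j
      · rw [h4]
      · linear_combination -h2 i j h4
    rw [trace, Fin.sum_univ_five] at hA hB
    simp only [diag_apply] at hA hB
    linear_combination hA - hB - h3 0 - h3 1 - h3 2 - h3 3 - h3 4 - 2 * (A i i - B i i) * two_zero
  · exact h1 i j h

theorem io_inj {A B : Fin 2 → M5} (hA : Tr0 A) (hB : Tr0 B) (h : io A = io B) : A = B := by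
  funext c
  refine eq_of_tr (hA c) (hB c) (fun i j hij => ?_) (fun i j hij => ?_)
  · have h1 := congrArg (co (RT c i j)) h
    rw [io, io, co_add, co_add, co_io hij (hA 0), co_io hij (hA 1), co_io hij (hB 0), co_io hij (hB 1)] at h1
    fin_cases c <;> simpa using h1
  · have h1 := congrArg (BF (hr (RT c i j))) h
    rw [io, io, map_add, map_add, bf_io hij (hA 0), bf_io hij (hA 1), bf_io hij (hB 0), bf_io hij (hB 1)] at h1
    fin_cases c <;> simpa using h1

theorem io1_inj {c : Fin 2} {A B : M5} (hA : A.trace = 0) (hB : B.trace = 0) (h : io1 KK c A = io1 KK c B) : A = B := by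
  refine eq_of_tr hA hB (fun i j hij => ?_) (fun i j hij => ?_)
  · have h1 := congrArg (co (RT c i j)) h
    rwa [co_io hij hA, co_io hij hB, if_pos rfl, if_pos rfl] at h1
  · have h1 := congrArg (BF (hr (RT c i j))) h
    rwa [bf_io hij hA, bf_io hij hB, if_pos rfl, if_pos rfl] at h1

/-- the image -/
def Im : Submodule KK LK where
  carrier := {w | ∃ A, Tr0 A ∧ w = io A}
  add_mem' := by
    rintro _ _ ⟨A, hA, rfl⟩ ⟨B, hB, rfl⟩
    refine ⟨A + B, fun c => by rw [Pi.add_apply, trace_add, hA, hB, add_zero], ?_⟩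
    simp only [io, Pi.add_apply, map_add]
    abel
  zero_mem' := ⟨0, fun c => trace_zero _ _, by simp only [io, Pi.zero_apply, map_zero, add_zero]⟩
  smul_mem' := by
    rintro a _ ⟨A, hA, rfl⟩
    exact ⟨a • A, fun c => by rw [Pi.smul_apply, trace_smul, hA, smul_zero], by
      simp only [io, Pi.smul_apply, map_smul, smul_add]⟩

theorem io1_mem (c : Fin 2) {A : M5} (hA : A.trace = 0) : io1 KK c A ∈ Im := by
  refine ⟨Pi.single c A, fun c' => ?_, ?_⟩
  · by_cases h : c' = c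
    · rw [h, Pi.single_eq_same, hA]
    · rw [Pi.single_eq_of_ne h, trace_zero]
  · fin_cases c <;> simp [io]

theorem tr_E {i j : Fin 5} (h : i ≠ j) : (single i j (1 : KK)).trace = 0 := trace_single_eq_of_ne _ _ _ h

theorem tr_D (i j : Fin 5) : (single i i (1 : KK) - single j j 1).trace = 0 := by
  rw [trace_sub, trace_single_eq_same, trace_single_eq_same, sub_self]

/-- the roots of `A₄A₄` -/
def LR : List ℕ := (prs.map fun p => RT 0 p.1 p.2) ++ prs.map fun p => RT 1 p.1 p.2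

theorem LR_mem : ∀ r ∈ LR, ∃ (c : Fin 2) (i j : Fin 5), i ≠ j ∧ r = RT c i j := by decide +kernel

theorem LR_perm : ((List.range 240).filter fun r => decide (dv v48 r = 0)).Perm LR := by decide +kernel

theorem LR_of {r : ℕ} (hr : r < 240) (h : dv v48 r = 0) : r ∈ LR :=
  LR_perm.subset (List.mem_filter.2 ⟨List.mem_range.2 hr, decide_eq_true h⟩)

theorem dv_RT : ∀ (c : Fin 2) (i j : Fin 5), i ≠ j → dv v48 (RT c i j) = 0 := by decide +kernel

/-- the fundamental coroots as sums -/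
def sx : Fin 8 → List ℕ := ![[212, 7, 127], [60, 7, 168, 127], [31, 168, 127], [81, 7, 154, 127], [60, 212, 7, 154, 127],
  [60, 212, 7, 154], [31, 60, 7, 154, 127], [60, 212, 81, 7, 127]]

theorem sx_tab : ∀ k : Fin 8, (∀ i : Fin 8, (cor chevE8 (six k) i - ((sx k).map fun b => cor chevE8 b i).sum) % 2 = 0) ∧
    ∀ r ∈ sx k, r ∈ LR := by decide +kernel

theorem hv_sum (c : Fin chevE8.rank → KK) : hv c = ∑ k, c k • hr (six (k.cast rk8)) := by
  funext a
  rw [Finset.sum_apply]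
  rcases a with a | a
  · show c a = _
    rw [Finset.sum_eq_single a]
    · rw [hr_six, Pi.smul_apply, smul_eq_mul]
      show c a = c a * (Pi.single a (1 : KK) : Fin chevE8.rank → KK) a
      rw [Pi.single_eq_same, mul_one]
    · intro b _ hb
      rw [hr_six, Pi.smul_apply, smul_eq_mul]
      show c b * (Pi.single b (1 : KK) : Fin chevE8.rank → KK) a = 0
      rw [Pi.single_eq_of_ne hb.symm, mul_zero]
    · intro h
      exact absurd (Finset.mem_univ a) h
  · exact (Finset.sum_eq_zero fun k _ => mul_zero _).symm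

theorem hv_mem (c : Fin chevE8.rank → KK) : hv c ∈ Im := by
  rw [hv_sum]
  refine Submodule.sum_mem _ fun k _ => Submodule.smul_mem _ _ ?_
  rw [hr_sum _ _ (sx_tab _).1]
  refine list_sum_mem fun x hx => ?_
  obtain ⟨r, hr', rfl⟩ := List.mem_map.1 hx
  obtain ⟨c, i, j, hij, rfl⟩ := LR_mem r ((sx_tab _).2 r hr')
  rw [← io_D c hij]
  exact io1_mem c (tr_D i j)

/-- **the fixed space is the image** -/
theorem io_surj {w : LK} (h : w ∈ St fun r => dv v48 r = 0) : ∃ A, Tr0 A ∧ w = io A := by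
  have h1 : w + hv (fun i => w (Sum.inl i)) ∈ Sp fun r => dv v48 r = 0 :=
    ⟨fun i => k2 _, fun r hr h0 => by rw [co_add, h r hr h0, co_hv, add_zero]⟩
  have h2 : w + hv (fun i => w (Sum.inl i)) ∈ Im := Sp_le (fun r hr h0 => by
    obtain ⟨c, i, j, hij, rfl⟩ := LR_mem r (LR_of hr h0)
    rw [← io_E c hij]
    exact io1_mem c (tr_E hij)) h1
  exact (Im.add_mem_iff_left (hv_mem _)).1 h2

theorem tv_io (hζ : IsPrimitiveRoot ζ 5) {t : GK} (ht : Tv t v48 ζ) (c : Fin 2) {A : M5} (hA : A.trace = 0) :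
    aK t (io1 KK c A) = io1 KK c A := by
  refine ext_tr0 (L1 := lin t ∘ₗ io1 KK c) (L2 := io1 KK c) (fun k l hkl => ?_) (fun k => ?_) A hA
  · show aK t (io1 KK c (single k l 1)) = io1 KK c (single k l 1)
    have h1 : Cfsg.Agent.H259.L34.dz v48 (vec chevE8 8 (RT c k l)) = 0 := dv_RT c k l hkl
    rw [io_E c hkl, ht.er hζ (RT_lt c k l hkl), h1, ZMod.val_zero, pow_zero, one_smul]
  · show aK t (io1 KK c (HK KK k)) = io1 KK c (HK KK k)
    rw [io_H, aK_t_hr ht.1]

theorem RT_opp : ∀ (c : Fin 2) (i j : Fin 5), i ≠ j → 239 - RT c i j = RT c j i := by decide +kernel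

/-- `gz` acts as the transposition -/
theorem gz_io (c : Fin 2) {A : M5} (hA : A.trace = 0) : aK gz (io1 KK c A) = io1 KK c Aᵀ := by
  refine ext_tr0 (L1 := lin gz ∘ₗ io1 KK c) (L2 := io1 KK c ∘ₗ (transposeLinearEquiv (Fin 5) (Fin 5) KK KK).toLinearMap)
    (fun k l hkl => ?_) (fun k => ?_) A hA
  · show aK gz (io1 KK c (single k l 1)) = io1 KK c (single k l (1 : KK))ᵀ
    rw [transpose_single, io_E c hkl, io_E c hkl.symm, aK_gz (RT_lt c k l hkl), RT_opp c k l hkl]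
  · show aK gz (io1 KK c (HK KK k)) = io1 KK c (HK KK k)ᵀ
    have h1 : (HK KK k)ᵀ = HK KK k := by rw [HK, transpose_sub, transpose_single, transpose_single]
    rw [h1, io_H, aK_gz_hr (RT_lt c _ _ (cs_ne k))]

/-! ### conjugations -/

/-- `g` acts by the conjugations with `U c` -/
def Au (g : GK) (U : Fin 2 → M5ˣ) : Prop :=
  ∀ (c : Fin 2) (A : M5), A.trace = 0 → aK g (io1 KK c A) = io1 KK c ((U c : M5) * A * ((U c)⁻¹ : M5ˣ))

theorem tr_cj (U : M5ˣ) {A : M5} (hA : A.trace = 0) : ((U : M5) * A * (U⁻¹ : M5ˣ)).trace = 0 := by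
  rw [trace_conj U.inv_mul, hA]

theorem Au.one : Au 1 1 := fun c A _ => by
  rw [aK_one, Pi.one_apply, inv_one, Units.val_one, one_mul, mul_one]

theorem Au.mul {g g' : GK} {U V : Fin 2 → M5ˣ} (h : Au g U) (h' : Au g' V) : Au (g * g') (U * V) := fun c A hA => by
  rw [aK_mul, h' c A hA, h c _ (tr_cj _ hA), Pi.mul_apply, _root_.mul_inv_rev, Units.val_mul, Units.val_mul]
  simp only [mul_assoc]

theorem Au.inv {g : GK} {U : Fin 2 → M5ˣ} (h : Au g U) : Au g⁻¹ U⁻¹ := fun c A hA => by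
  have h1 := h c _ (tr_cj (U c)⁻¹ hA)
  rw [inv_inv, ← mul_assoc, ← mul_assoc, Units.mul_inv, one_mul, Units.mul_inv_cancel_right] at h1
  rw [Pi.inv_apply, inv_inv]
  conv_lhs => rw [← h1, aK_inv']

theorem Au.pow {g : GK} {U : Fin 2 → M5ˣ} (h : Au g U) (n : ℕ) : Au (g ^ n) (U ^ n) := by
  induction n with
  | zero => rw [pow_zero, pow_zero]; exact Au.one
  | succ n ih => rw [pow_succ, pow_succ]; exact ih.mul h

theorem Au.io {g : GK} {U : Fin 2 → M5ˣ} (h : Au g U) {A : Fin 2 → M5} (hA : Tr0 A) :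
    aK g (io A) = io fun c => (U c : M5) * A c * ((U c)⁻¹ : M5ˣ) := by
  rw [F5.io, aK_add, h 0 _ (hA 0), h 1 _ (hA 1)]
  rfl

theorem Au.fix_iff {g : GK} {U : Fin 2 → M5ˣ} (h : Au g U) {A : Fin 2 → M5} (hA : Tr0 A) :
    aK g (F5.io A) = F5.io A ↔ ∀ c, A c * (U c : M5) = U c * A c := by
  rw [h.io hA]
  constructor
  · intro h1 c
    have h2 : (U c : M5) * A c * ((U c)⁻¹ : M5ˣ) = A c := congrFun (io_inj (fun c => tr_cj _ (hA c)) hA h1) c
    rw [Units.mul_inv_eq_iff_eq_mul] at h2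
    exact h2.symm
  · intro h1
    congr 1
    funext c
    rw [← h1, Units.mul_inv_cancel_right]

theorem au_of_acts {g : GK} {P P' : Fin 2 → M5} (h : Acts (g : GL chevE8.Idx KK) P P') : ∃ U, Au g U :=
  ⟨fun c => ⟨P c, P' c, h.mi c, h.im c⟩, fun c A hA => h.act c A hA⟩

/-- **the centraliser acts by conjugations** -/
theorem exists_Au (hζ : IsPrimitiveRoot ζ 5) {t : GK} (ht : Tv t v48 ζ) {g : GK} (hg : g * t = t * g) : ∃ U, Au g U := by
  have h1 : ∀ i : Fin 1, Tv (![t] i) (![v48] i) ζ := fun i => by fin_cases i; exact ht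
  obtain ⟨m, hm, s, hs, rfl⟩ := cent_of_conZ hζ h1 (conZ1 hζ h1) (L := LR) (fun r hr h => LR_of hr (h 0)) (c := g)
    fun i => by fin_cases i; exact hg
  obtain ⟨P, P', h2⟩ := acts_diag (h := (s : GL chevE8.Idx KK)) hs
  obtain ⟨V, hV⟩ := au_of_acts h2
  obtain ⟨U, hU⟩ : ∃ U, Au m U := KB_ind (L := LR) (fun r hr => by
      obtain ⟨c, i, j, hij, rfl⟩ := LR_mem r hr
      exact RT_lt c i j hij) (P := fun m => ∃ U, Au m U) ⟨1, Au.one⟩ (fun r hr a g ⟨U, hU⟩ => by
      obtain ⟨c, i, j, hij, rfl⟩ := LR_mem r hr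
      obtain ⟨Q, Q', h3⟩ := acts_xG c hij a
      have h4 : ((xr (RT c i j) a : GK) : GL chevE8.Idx KK) = _ :=
        coe_xc e8T (K := KK) (by rw [nr]; exact RT_lt c i j hij : RT c i j < chevE8.nroots) a
      obtain ⟨V, hV⟩ := au_of_acts (g := xr (RT c i j) a) (by rw [h4]; exact h3)
      exact ⟨_, hV.mul hU⟩) hm
  exact ⟨_, hU.mul hV⟩

/-- the kernel -/
theorem Au.scal {U : Fin 2 → M5ˣ} (h : Au 1 U) (c : Fin 2) : ∃ a : KK, (U c : M5) = a • (1 : M5) := by
  refine ⟨_, scal_of_comm fun i j hij => ?_⟩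
  have h1 := h c _ (tr_E hij)
  rw [aK_one] at h1
  have h2 := io1_inj (tr_E hij) (tr_cj _ (tr_E hij)) h1
  rw [Units.eq_mul_inv_iff_mul_eq] at h2
  exact h2.symm

theorem Au.scal2 {g : GK} {U V : Fin 2 → M5ˣ} (h : Au g U) (h' : Au g V) (c : Fin 2) :
    ∃ a : KK, (U c : M5) = a • (V c : M5) := by
  have h1 := h.mul h'.inv
  rw [mul_inv_cancel] at h1
  obtain ⟨a, ha⟩ := h1.scal c
  rw [Pi.mul_apply, Pi.inv_apply, Units.val_mul, Units.mul_inv_eq_iff_eq_mul, smul_mul_assoc, one_mul] at ha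
  exact ⟨a, ha⟩

/-- a scalar multiple of a unit -/
noncomputable def sm (a : KK) (ha : a ≠ 0) (U : M5ˣ) : M5ˣ :=
  ⟨a • (U : M5), a⁻¹ • ((U⁻¹ : M5ˣ) : M5), by rw [smul_mul_smul_comm, mul_inv_cancel₀ ha, Units.mul_inv, one_smul],
    by rw [smul_mul_smul_comm, inv_mul_cancel₀ ha, Units.inv_mul, one_smul]⟩

theorem Au.smul {g : GK} {U : Fin 2 → M5ˣ} (h : Au g U) {a : Fin 2 → KK} (ha : ∀ c, a c ≠ 0) :
    Au g fun c => sm (a c) (ha c) (U c) := fun c A hA => by
  rw [h c A hA]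
  congr 1
  show _ = a c • (U c : M5) * A * (a c)⁻¹ • (((U c)⁻¹ : M5ˣ) : M5)
  rw [smul_mul_assoc, smul_mul_smul_comm, mul_inv_cancel₀ (ha c), one_smul]

theorem det_ne (U : M5ˣ) : (U : M5).det ≠ 0 := by
  intro h
  have h1 := congrArg det U.mul_inv
  rw [det_mul, h, zero_mul, det_one] at h1
  exact zero_ne_one h1

/-- **the lift of an element of order prime to five** -/
theorem Au.lift {g : GK} {U : Fin 2 → M5ˣ} (h : Au g U) {n k : ℕ} (hn : g ^ n = 1) (hk : 5 ∣ k * n + 1) :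
    ∃ V : Fin 2 → M5ˣ, Au g V ∧ ∀ c, V c ^ n = 1 ∧ (V c : M5).det = 1 := by
  have h1 : ∀ c, ∃ a : KK, a ^ 5 = ((U c : M5).det)⁻¹ := fun c => IsAlgClosed.exists_pow_nat_eq _ (by norm_num)
  choose a ha using h1
  have ha0 : ∀ c, a c ≠ 0 := fun c h0 => inv_ne_zero (det_ne (U c)) (by rw [← ha, h0]; norm_num)
  obtain ⟨V, hV, hd⟩ : ∃ V : Fin 2 → M5ˣ, Au g V ∧ ∀ c, (V c : M5).det = 1 := ⟨_, h.smul ha0, fun c => by
    show (a c • (U c : M5)).det = 1
    rw [det_smul, Fintype.card_fin, ha, inv_mul_cancel₀ (det_ne _)]⟩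
  have h2 := hV.pow n
  rw [hn] at h2
  choose b hb using h2.scal
  have hb' : ∀ c, (V c : M5) ^ n = b c • (1 : M5) := fun c => by rw [← hb, Pi.pow_apply, Units.val_pow_eq_pow_val]
  have hb5 : ∀ c, b c ^ 5 = 1 := fun c => by
    have h3 := congrArg det (hb' c)
    rwa [det_pow, hd, one_pow, det_smul, Fintype.card_fin, det_one, mul_one, eq_comm] at h3
  have hb0 : ∀ c, b c ^ k ≠ 0 := fun c => pow_ne_zero _ fun h0 => by
    have h3 := hb5 c
    rw [h0] at h3
    norm_num at h3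
  obtain ⟨m, hm⟩ := hk
  refine ⟨_, hV.smul hb0, fun c => ⟨Units.ext ?_, ?_⟩⟩
  · rw [Units.val_pow_eq_pow_val]
    show (b c ^ k • (V c : M5)) ^ n = 1
    rw [smul_pow, hb', smul_smul, ← pow_mul, ← pow_succ, hm, pow_mul, hb5, one_pow, one_smul]
  · show (b c ^ k • (V c : M5)).det = 1
    rw [det_smul, Fintype.card_fin, hd, ← pow_mul, mul_comm k, pow_mul, hb5, one_pow, one_mul]

/-- **torus elements act by diagonal matrices** -/
theorem Au.diag {N : ℕ} [NeZero N] {ξ : KK} (hξ : IsPrimitiveRoot ξ N) {s : GK} {u : Fin 8 → ZMod N} (hs : Tv s u ξ)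
    {U : Fin 2 → M5ˣ} (h : Au s U) (hU : ∀ c, U c ^ N = 1) : ∃ e : Fin 2 → Fin 5 → ZMod N,
      ∀ c, (U c : M5) = dgz ξ (e c) ∧ ∀ i j, i ≠ j → dv u (RT c i j) = e c i - e c j := by
  have h1 : ∀ c i j, i ≠ j → (U c : M5) * single i j (1 : KK) = ξ ^ (dv u (RT c i j)).val • (single i j (1 : KK) * U c) := by
    intro c i j hij
    have h2 := h c _ (tr_E hij)
    rw [io_E c hij, hs.er hξ (RT_lt c i j hij), ← io_E c hij, ← map_smul] at h2
    have h3 := io1_inj (by rw [trace_smul, tr_E hij, smul_zero]) (tr_cj _ (tr_E hij)) h2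
    rw [Units.eq_mul_inv_iff_mul_eq, smul_mul_assoc] at h3
    exact h3.symm
  have h2 : ∀ c, (U c : M5) = diagonal fun i => (U c : M5) i i := fun c => by
    ext a i
    rw [diagonal_apply]
    split_ifs with ha
    · rw [ha]
    · obtain ⟨j, hj⟩ := exists_ne i
      have h3 := congrFun (congrFun (h1 c i j hj.symm) a) j
      rwa [mul_single_apply_same, mul_one, Matrix.smul_apply, single_mul_apply_of_ne (h := ha), smul_zero] at h3
  have h3 : ∀ c i, ∃ e : ZMod N, (U c : M5) i i = ξ ^ e.val := fun c i => by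
    have h4 : (U c : M5) ^ N = 1 := by rw [← Units.val_pow_eq_pow_val, hU, Units.val_one]
    rw [h2, diagonal_pow] at h4
    have h5 := congrFun (congrFun h4 i) i
    rw [diagonal_apply_eq, one_apply_eq, Pi.pow_apply] at h5
    obtain ⟨k, hk, e⟩ := hξ.eq_pow_of_pow_eq_one h5
    exact ⟨k, by rw [ZMod.val_cast_of_lt hk, e]⟩
  choose e he using h3
  refine ⟨e, fun c => ⟨?_, fun i j hij => ?_⟩⟩
  · rw [h2, dgz]
    congr 1
    funext i
    exact he c i
  · have h4 := congrFun (congrFun (h1 c i j hij) i) j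
    rw [mul_single_apply_same, mul_one, Matrix.smul_apply, single_mul_apply_same, one_mul, smul_eq_mul, he, he, ← pv_add hξ,
      Cfsg.Agent.H413.L64.pow_inj_val hξ] at h4
    rw [h4, add_sub_cancel_right]

theorem prs_ne : ∀ p ∈ prs, p.1 ≠ p.2 := by decide

theorem cnt_eq {N : ℕ} [NeZero N] {u : Fin 8 → ZMod N} {e : Fin 2 → Fin 5 → ZMod N}
    (h : ∀ c i j, i ≠ j → dv u (RT c i j) = e c i - e c j) :
    ((List.range 240).countP fun r => decide (dv u r = 0) && decide (dv v48 r = 0)) = cnt (e 0) + cnt (e 1) := by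
  rw [← List.countP_filter, LR_perm.countP_eq, LR, List.countP_append, List.countP_map, List.countP_map, cnt, cnt]
  congr 1 <;> refine List.countP_congr fun p hp => ?_ <;>
    simp only [Function.comp, decide_eq_true_eq, h _ _ _ (prs_ne p hp), sub_eq_zero]

/-- **the invariant form** -/
theorem form {t g : GK} {P G : Fin 2 → M5ˣ}
    (ht : ∀ (c : Fin 2) (A : M5), A.trace = 0 → aK t (io1 KK c A) = io1 KK c ((P c : M5) * Aᵀ * ((P c)⁻¹ : M5ˣ)))
    (hg : Au g G) (hc : g * t = t * g) {n k : ℕ} (hk : 5 ∣ k * n + 1) (c : Fin 2) (h1 : G c ^ n = 1)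
    (h2 : (G c : M5).det = 1) : (G c : M5) * P c * (G c : M5)ᵀ = P c := by
  obtain ⟨g1, e1⟩ : ∃ g1 : M5, g1 = G c := ⟨_, rfl⟩
  obtain ⟨g2, e2⟩ : ∃ g2 : M5, g2 = ((G c)⁻¹ : M5ˣ) := ⟨_, rfl⟩
  obtain ⟨p1, e3⟩ : ∃ p1 : M5, p1 = P c := ⟨_, rfl⟩
  obtain ⟨p2, e4⟩ : ∃ p2 : M5, p2 = ((P c)⁻¹ : M5ˣ) := ⟨_, rfl⟩
  have g12 : g1 * g2 = 1 := by rw [e1, e2, Units.mul_inv]
  have g21 : g2 * g1 = 1 := by rw [e1, e2, Units.inv_mul]
  have p12 : p1 * p2 = 1 := by rw [e3, e4, Units.mul_inv]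
  have p21 : p2 * p1 = 1 := by rw [e3, e4, Units.inv_mul]
  have t12 : g1ᵀ * g2ᵀ = 1 := by rw [← transpose_mul, g21, transpose_one]
  have t21 : g2ᵀ * g1ᵀ = 1 := by rw [← transpose_mul, g12, transpose_one]
  have h3 := scal_of_comm (M := g1ᵀ * p2 * g1 * p1) fun i j hij => by
    have h4 : aK (g * t) (io1 KK c (single j i 1)) = aK (t * g) (io1 KK c (single j i 1)) := by rw [hc]
    have h5 : (single j i (1 : KK))ᵀ.trace = 0 := by rw [trace_transpose, tr_E hij.symm]
    rw [aK_mul, aK_mul, ht c _ (tr_E hij.symm), hg c _ (tr_cj _ h5), hg c _ (tr_E hij.symm),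
      ht c _ (tr_cj _ (tr_E hij.symm))] at h4
    have h6 := io1_inj (tr_cj _ (tr_cj _ h5)) (tr_cj _ (by rw [trace_transpose]; exact tr_cj _ (tr_E hij.symm))) h4
    rw [← e1, ← e2, ← e3, ← e4, transpose_mul, transpose_mul, transpose_single] at h6
    generalize single i j (1 : KK) = E at h6
    linear_combination (norm := noncomm_ring) g1ᵀ * p2 * h6 * (g1 * p1) - g1ᵀ * p2 * g1 * p1 * E * p2 * g21 * p1 -
      g1ᵀ * p2 * g1 * p1 * E * p21 + g1ᵀ * p21 * (g2ᵀ * E * g1ᵀ * p2 * g1 * p1) + t12 * (E * g1ᵀ * p2 * g1 * p1)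
  generalize (g1ᵀ * p2 * g1 * p1) 0 0 = μ at h3
  have h4 : g1 * p1 * g1ᵀ = μ • p1 := by
    have h5 : p1 * g2ᵀ * (g1ᵀ * p2 * g1 * p1) * g1ᵀ = p1 * g2ᵀ * (μ • (1 : M5)) * g1ᵀ := by rw [h3]
    rw [mul_smul_comm, smul_mul_assoc, mul_one, mul_assoc p1 g2ᵀ g1ᵀ, t21, mul_one] at h5
    linear_combination (norm := noncomm_ring) h5 - p1 * t21 * (p2 * g1 * p1 * g1ᵀ) - p12 * (g1 * p1 * g1ᵀ)
  have h5 : ∀ m : ℕ, g1 ^ m * p1 * (g1 ^ m)ᵀ = μ ^ m • p1 := fun m => by
    induction m with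
    | zero => rw [pow_zero, pow_zero, transpose_one, one_mul, mul_one, one_smul]
    | succ m ih =>
      have h6 : g1 ^ (m + 1) * p1 * (g1 ^ (m + 1))ᵀ = g1 * (g1 ^ m * p1 * (g1 ^ m)ᵀ) * g1ᵀ := by
        rw [pow_succ', transpose_mul]
        simp only [mul_assoc]
      rw [h6, ih, mul_smul_comm, smul_mul_assoc, h4, smul_smul, pow_succ]
  have hp : p1.det ≠ 0 := e3 ▸ det_ne _
  have h6 : μ ^ n = 1 := by
    have h7 := h5 n
    rw [e1, ← Units.val_pow_eq_pow_val, h1, Units.val_one, transpose_one, one_mul, mul_one] at h7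
    have h8 : (1 : M5) = μ ^ n • (1 : M5) := by
      rw [← p12, ← smul_mul_assoc, ← h7]
    have h9 := congrFun (congrFun h8 0) 0
    rwa [Matrix.smul_apply, one_apply_eq, smul_eq_mul, mul_one, eq_comm] at h9
  have h7 : μ ^ 5 = 1 := by
    have h8 := congrArg det h4
    rw [det_mul, det_mul, det_transpose, e1, h2, one_mul, mul_one, det_smul, Fintype.card_fin] at h8
    exact mul_right_cancel₀ hp (by rw [← h8, one_mul])
  obtain ⟨m, hm⟩ := hk
  have h8 : μ = 1 := by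
    have h9 : μ ^ (k * n + 1) = 1 := by rw [hm, pow_mul, h7, one_pow]
    rwa [pow_succ, mul_comm k, pow_mul, h6, one_pow, one_mul] at h9
  rw [← e1, ← e3, h4, h8, one_smul]

end Cfsg.Agent.E82.F5
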